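import Cfsg.Agent.H743.EP.SpOrb
import Cfsg.Agent.H797.EP.Psi
import Cfsg.Agent.H902.EP.SpKill

/-!
# A `p`-element of `Sp_{2n}(2)` fixing no maximal isotropic subspace (helper743, for helper902's `row_psp2`)

`p` odd, `2 e` the order of `2` modulo `p`, `n = e + m`, `m ≥ 1`: there is a `p`-element `x` of `Sp n` which fixes no maximal
isotropic subspace, fixes a hyperbolic pair and a quadratic form of plus type.
-/

set_option autoImplicit false

open scoped Pointwise Matrix
open Matrix Module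

namespace Cfsg.Agent.H743.EP.SpX

open Cfsg.Agent.H352.EP Cfsg.Agent.H797.EP Cfsg.Agent.H743.EP.SpOrb

variable {n : ℕ}

/-- a shortcut -/
local instance (priority := 10000) smulS' (n : ℕ) : SMul (Sp n) (Vv n) := inferInstance

/-- `x` is a `p`-element acting trivially on its invariant isotropic subspaces -/
structure Good (p : ℕ) (x : Sp n) : Prop where
  ord : ∃ k, x ^ p ^ k = 1
  ne : x ≠ 1
  triv : ∀ A : Submodule (ZMod 2) (Vv n), (∀ u ∈ A, ∀ v ∈ A, form u v = 0) → (∀ u ∈ A, x • u ∈ A) →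
    ∀ u ∈ A, x • u = u

theorem smul_add' (x : Sp n) (u v : Vv n) : x • (u + v) = x • u + x • v :=
  map_add (x : Vv n ≃ₗ[ZMod 2] Vv n) u v

/-- elements of odd order -/
theorem fix_of_sq {x : Sp n} {N : ℕ} (hN : Odd N) (hx : x ^ N = 1) {a : Vv n} (h : x • (x • a) = a) : x • a = a := by
  obtain ⟨m, rfl⟩ := hN
  have h1 : ∀ m : ℕ, x ^ (2 * m) • a = a := by
    intro m
    induction m with
    | zero => rw [mul_zero, pow_zero, one_smul]
    | succ m ih =>
      have e : x ^ (2 * (m + 1)) = x ^ (2 * m) * (x * x) := by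
        rw [← sq, ← pow_add]; ring_nf
      rw [e, mul_smul, mul_smul, h, ih]
  have h2 : x ^ (2 * m + 1) • a = x • a := by
    rw [pow_succ', mul_smul, h1]
  rw [← h2, hx, one_smul]

/-- if `x` fixes `x a + a` and has odd order then it fixes `a` -/
theorem fix_of_add {x : Sp n} {N : ℕ} (hN : Odd N) (hx : x ^ N = 1) {a : Vv n} (h : x • (x • a + a) = x • a + a) :
    x • a = a := by
  refine fix_of_sq hN hx ?_
  rw [smul_add', add_comm] at h
  exact add_left_cancel h

theorem Good.no_lag {p : ℕ} (hp : Odd p) {x : Sp n} (H : Good p x) (L : Lag n) : x • L ≠ L := by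
  intro hL
  obtain ⟨k, hk⟩ := H.ord
  have hinv : ∀ u ∈ L.1, x • u ∈ L.1 := by
    intro u hu
    have h1 : x • u ∈ (x • L).1 := (smul_mem_act x L.1 u).2 hu
    rwa [hL] at h1
  have htr := H.triv L.1 L.2.1 hinv
  apply H.ne
  refine ext_smul fun v => ?_
  rw [one_smul]
  refine fix_of_add (hp.pow (n := k)) hk ?_
  refine htr _ ?_
  rw [← lag_orth L]
  intro a ha
  change form a (x • v + v) = 0
  rw [form_add_right]
  have h1 : form a (x • v) = form a v := by
    conv_lhs => rw [← htr a ha]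
    exact form_smul x a v
  rw [h1]
  exact zz _

theorem Good.emb {p : ℕ} (hp : Odd p) {x : Sp n} (H : Good p x) : Good p (emb x) where
  ord := by
    obtain ⟨k, hk⟩ := H.ord
    exact ⟨k, by rw [← map_pow, hk, map_one]⟩
  ne := by
    intro h1
    apply H.ne
    refine ext_smul fun v => ?_
    have h2 : SpOrb.emb x • inc n v = inc n v := by rw [h1, one_smul]
    have h3 := congrArg tl h2
    rw [one_smul]
    exact h3
  triv := by
    intro A hA hinv u hu
    obtain ⟨k, hk⟩ := H.ord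
    have hI : ∀ w : Vv n, SpOrb.emb x • inc n w = inc n (x • w) := fun w => rfl
    have h1 := H.triv (A.comap (inc n)) (fun u hu v hv => by
      have h2 := hA _ hu _ hv
      rw [form_succ] at h2
      change (0 : ZMod 2) * 0 + 0 * 0 + form u v = 0 at h2
      rwa [mul_zero, add_zero, zero_add] at h2) (fun u hu => by
      have h2 := hinv _ hu
      rw [hI] at h2
      exact h2)
    have h2 : inc n (x • tl u + tl u) = SpOrb.emb x • u + u := by
      refine ext_tl ?_ ?_ rfl
      · change (0 : ZMod 2) = u.1 0 + u.1 0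
        rw [zz]
      · change (0 : ZMod 2) = u.2 0 + u.2 0
        rw [zz]
    have h3 := h1 (x • tl u + tl u) (by
      change inc n (x • tl u + tl u) ∈ A
      rw [h2]
      exact A.add_mem (hinv u hu) hu)
    have h4 := fix_of_add (hp.pow (n := k)) hk h3
    rw [emb_smul, h4, cn_tl]

/-- the number of the fixed points in an invariant subspace -/
theorem card_modEq {p : ℕ} [hp : Fact p.Prime] {x : Sp n} (hx : x ^ p = 1) (A : Submodule (ZMod 2) (Vv n))
    (hA : ∀ u ∈ A, x • u ∈ A) : Nat.card A ≡ Nat.card {a : A // x • (a : Vv n) = a} [MOD p] := by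
  classical
  have : Fintype A := Fintype.ofFinite _
  let f : Function.End A := fun a => ⟨x • (a : Vv n), hA a a.2⟩
  have hf : ∀ (j : ℕ) (a : A), (((f ^ j) a : A) : Vv n) = x ^ j • (a : Vv n) := by
    intro j
    induction j with
    | zero => intro a; rw [pow_zero, pow_zero, one_smul]; rfl
    | succ j ih =>
      intro a
      rw [pow_succ', pow_succ']
      change x • (((f ^ j) a : A) : Vv n) = _
      rw [ih, mul_smul]
  have h1 : f ^ p ^ 1 = 1 := by
    funext a
    refine Subtype.ext ?_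
    rw [hf, pow_one, hx, one_smul]
    rfl
  have h2 := Equiv.Perm.card_fixedPoints_modEq h1
  rw [← Nat.card_eq_fintype_card, ← Nat.card_eq_fintype_card] at h2
  have h3 : Nat.card (Function.fixedPoints f) = Nat.card {a : A // x • (a : Vv n) = a} := by
    refine Nat.card_congr (Equiv.subtypeEquivRight fun a => ?_)
    constructor
    · intro h
      exact congrArg Subtype.val h
    · intro h
      exact Subtype.ext h
  rw [h3] at h2
  exact h2

/-- the fixed points -/
def Fx (x : Sp n) : Submodule (ZMod 2) (Vv n) where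
  carrier := {v | x • v = v}
  zero_mem' := map_zero (x : Vv n ≃ₗ[ZMod 2] Vv n)
  add_mem' := by
    intro a b ha hb
    change x • (a + b) = a + b
    rw [smul_add']
    exact congrArg₂ _ ha hb
  smul_mem' := by
    intro c a ha
    exact (map_smul (x : Vv n ≃ₗ[ZMod 2] Vv n) c a).trans (congrArg _ ha)

theorem exists_good {p : ℕ} [hp : Fact p.Prime] (hp2 : p ≠ 2) {e : ℕ} (hd : ∀ j, p ∣ 2 ^ j - 1 ↔ 2 * e ∣ j) :
    ∃ x : Sp e, Good p x := by
  classical
  have hpo : Odd p := hp.out.odd_of_ne_two hp2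
  have hmod : ∀ j, 2 ^ j ≡ 1 [MOD p] ↔ 2 * e ∣ j := by
    intro j
    rw [← hd j]
    constructor
    · intro h
      exact (Nat.modEq_iff_dvd' Nat.one_le_two_pow).1 h.symm
    · intro h
      exact ((Nat.modEq_iff_dvd' Nat.one_le_two_pow).2 h).symm
  have he : 1 ≤ e := by
    by_contra hc
    have h1 : e = 0 := by omega
    have h2 := (hmod (p - 1)).1 (by
      have h3 := (ZMod.pow_card_sub_one_eq_one (p := p) (a := 2) (by
        intro h4
        have h5 : (p : ℕ) ∣ 2 := (ZMod.natCast_eq_zero_iff 2 p).1 (by exact_mod_cast h4)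
        exact hp2 ((Nat.prime_dvd_prime_iff_eq hp.out Nat.prime_two).1 h5)))
      exact (ZMod.natCast_eq_natCast_iff _ _ _).1 (by push_cast; exact h3))
    rw [h1, mul_zero, zero_dvd_iff] at h2
    have := hp.out.two_le
    omega
  -- `p` divides the order of the group
  have hdvd : p ∣ Nat.card (Sp e) := by
    have hne : ∃ v₀ : Vv e, v₀ ≠ 0 := by
      refine ⟨(fun _ => 1, 0), fun h => ?_⟩
      have h1 := congrFun (congrArg Prod.fst h) ⟨0, he⟩
      exact one_ne_zero h1
    obtain ⟨v₀, hv₀⟩ := hne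
    have h1 : MulAction.orbit (Sp e) v₀ = {v | v ≠ 0} := by
      ext v
      constructor
      · rintro ⟨g, rfl⟩ h0
        apply hv₀
        have h0' : g • v₀ = 0 := h0
        have h2 : g⁻¹ • (g • v₀) = 0 := by
          rw [h0']
          exact map_zero ((g⁻¹ : Sp e) : Vv e ≃ₗ[ZMod 2] Vv e)
        rwa [inv_smul_smul] at h2
      · intro hv
        obtain ⟨g, hg⟩ := Cfsg.Agent.H902.EP.exists_smul_eq hv₀ hv
        exact ⟨g, hg⟩
    have h2 : Nat.card (MulAction.orbit (Sp e) v₀) ∣ Nat.card (Sp e) := by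
      rw [Nat.card_congr (MulAction.orbitEquivQuotientStabilizer (Sp e) v₀)]
      exact Subgroup.card_quotient_dvd_card _
    have h3 : Nat.card (MulAction.orbit (Sp e) v₀) = 2 ^ (2 * e) - 1 := by
      rw [h1]
      have h4 : {v : Vv e | v ≠ 0} = ({0} : Set (Vv e))ᶜ := rfl
      rw [h4, Nat.card_coe_set_eq, Set.ncard_compl, Set.ncard_singleton]
      have h5 : Nat.card (Vv e) = 2 ^ (2 * e) := by
        rw [Nat.card_prod, Nat.card_fun, Nat.card_zmod, Nat.card_fin, ← pow_add, two_mul]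
      rw [h5]
    rw [h3] at h2
    exact ((hd _).2 dvd_rfl).trans h2
  obtain ⟨x, hx⟩ := exists_prime_orderOf_dvd_card' p hdvd
  have hxp : x ^ p = 1 := by rw [← hx, pow_orderOf_eq_one]
  have hx1 : x ≠ 1 := by
    rintro rfl
    rw [orderOf_one] at hx
    exact hp.out.one_lt.ne hx
  have hcard : ∀ A : Submodule (ZMod 2) (Vv e), Nat.card A = 2 ^ finrank (ZMod 2) A := by
    intro A
    have : Fintype A := Fintype.ofFinite _
    rw [Nat.card_eq_fintype_card, Module.card_eq_pow_finrank (K := ZMod 2), ZMod.card]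
  have hle : ∀ A : Submodule (ZMod 2) (Vv e), finrank (ZMod 2) A ≤ 2 * e := by
    intro A
    rw [← finrank_Vv (n := e)]
    exact Submodule.finrank_le A
  have h01 : ∀ A : Submodule (ZMod 2) (Vv e), Nat.card A ≡ 1 [MOD p] → A = ⊥ ∨ A = ⊤ := by
    intro A hA
    rw [hcard, hmod] at hA
    rcases Nat.eq_zero_or_pos (finrank (ZMod 2) A) with h0 | h0
    · left
      exact Submodule.finrank_eq_zero.1 h0
    · right
      refine Submodule.eq_top_of_finrank_eq ?_
      rw [finrank_Vv]
      exact le_antisymm (hle A) (Nat.le_of_dvd h0 hA)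
  -- no fixed vectors
  have hF : Fx x = ⊥ := by
    have h1 := card_modEq hxp ⊤ fun u _ => Submodule.mem_top
    have h2 : Nat.card {a : (⊤ : Submodule (ZMod 2) (Vv e)) // x • (a : Vv e) = a} = Nat.card (Fx x) := by
      refine Nat.card_congr ⟨fun a => ⟨a.1, a.2⟩, fun a => ⟨⟨a.1, Submodule.mem_top⟩, a.2⟩, fun _ => rfl, fun _ => rfl⟩
    rw [h2, hcard ⊤, finrank_top, finrank_Vv] at h1
    rcases h01 (Fx x) (h1.symm.trans ((hmod _).2 dvd_rfl)) with h3 | h3
    · exact h3
    · exfalso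
      apply hx1
      refine ext_smul fun v => ?_
      rw [one_smul]
      have : v ∈ Fx x := by rw [h3]; exact Submodule.mem_top
      exact this
  refine ⟨x, ⟨1, by rw [pow_one, hxp]⟩, hx1, ?_⟩
  intro A hA hinv u hu
  have h1 := card_modEq hxp A hinv
  have h2 : Nat.card {a : A // x • (a : Vv e) = a} = 1 := by
    rw [Nat.card_eq_one_iff_unique]
    refine ⟨⟨fun a b => ?_⟩, ⟨⟨0, map_zero (x : Vv e ≃ₗ[ZMod 2] Vv e)⟩⟩⟩
    have key : ∀ a : {a : A // x • (a : Vv e) = a}, ((a : A) : Vv e) = 0 := by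
      intro a
      have h3 : ((a : A) : Vv e) ∈ Fx x := a.2
      rw [hF] at h3
      exact (Submodule.mem_bot _).1 h3
    exact Subtype.ext (Subtype.ext ((key a).trans (key b).symm))
  rw [h2] at h1
  rcases h01 A h1 with h3 | h3
  · rw [h3] at hu
    rw [(Submodule.mem_bot _).1 hu]
    exact map_zero (x : Vv e ≃ₗ[ZMod 2] Vv e)
  · have h4 : u = 0 := eq_zero_of_form u fun v => hA u hu v (by rw [h3]; exact Submodule.mem_top)
    rw [h4]
    exact map_zero (x : Vv e ≃ₗ[ZMod 2] Vv e)

/-- an invariant quadratic form -/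
theorem exists_qf {x : Sp n} {N : ℕ} (hN : Odd N) (hx : x ^ N = 1) :
    ∃ θ : Vv n → ZMod 2, IsQF θ ∧ ∀ v, θ (x • v) = θ v := by
  refine ⟨fun v => ∑ i ∈ Finset.range N, th0 (x ^ i • v), fun u v => ?_, fun v => ?_⟩
  · have h1 : ∀ i ∈ Finset.range N, th0 (x ^ i • (u + v)) = th0 (x ^ i • u) + th0 (x ^ i • v) + form u v := by
      intro i _
      rw [smul_add', th0_qf]
      congr 1
      exact form_smul (x ^ i) u v
    beta_reduce
    rw [Finset.sum_congr rfl h1, Finset.sum_add_distrib, Finset.sum_add_distrib, Finset.sum_const, Finset.card_range]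
    congr 1
    obtain ⟨m, rfl⟩ := hN
    rw [nsmul_eq_mul]
    push_cast
    have h2 : (2 : ZMod 2) = 0 := rfl
    rw [h2, zero_mul, zero_add, one_mul]
  · have h1 : ∀ i ∈ Finset.range N, th0 (x ^ i • (x • v)) = th0 (x ^ (i + 1) • v) := by
      intro i _
      rw [pow_succ, mul_smul]
    have h2 := Finset.sum_range_succ (fun i => th0 (x ^ i • v)) N
    rw [Finset.sum_range_succ' (fun i => th0 (x ^ i • v)) N, hx, pow_zero] at h2
    change ∑ i ∈ Finset.range N, th0 (x ^ i • (x • v)) = ∑ i ∈ Finset.range N, th0 (x ^ i • v)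
    rw [Finset.sum_congr rfl h1]
    exact add_right_cancel h2

/-- an invariant quadratic form of plus type -/
theorem exists_plus {x : Sp n} {N : ℕ} (hN : Odd N) (hx : x ^ N = 1) {u v : Vv n} (hu : x • u = u) (hv : x • v = v)
    (huv : form u v = 1) : ∃ θ : QP n, x • θ = θ := by
  obtain ⟨θ, hq, hinv⟩ := exists_qf hN hx
  obtain ⟨z, hz⟩ := exists_shift th0_qf hq
  have hpl : ∀ w : Vv n, th0 w = 0 → IsPlus fun v => th0 v + form w v := by
    intro w hw
    have h1 := IsPlus.sm (q0 n).2 (H797.EP.tv w)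
    have h2 : sm (H797.EP.tv w) (q0 n).1 = fun v => th0 v + form w v := funext fun v => sm_tv_of_zero th0_qf hw v
    rwa [h2] at h1
  have key : ∀ θ' : Vv n → ZMod 2, IsPlus θ' → (∀ v, θ' (x • v) = θ' v) → ∃ θ : QP n, x • θ = θ := by
    intro θ' h1 h2
    exact ⟨⟨θ', h1⟩, Subtype.ext (sm_eq_iff.2 h2)⟩
  by_cases h0 : th0 z = 0
  · refine key θ ?_ hinv
    have h1 := hpl z h0
    have h2 : (fun v => th0 v + form z v) = θ := funext fun v => (hz v).symm
    rwa [h2] at h1
  · have h0' : th0 z = 1 := z_ne h0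
    have hw : ∃ w : Vv n, x • w = w ∧ θ w = 1 := by
      by_cases h1 : θ u = 0
      · by_cases h2 : θ v = 0
        · refine ⟨u + v, ?_, ?_⟩
          · rw [smul_add', hu, hv]
          · rw [hq, h1, h2, huv]
            rfl
        · exact ⟨v, hv, z_ne h2⟩
      · exact ⟨u, hu, z_ne h1⟩
    obtain ⟨w, hw1, hw2⟩ := hw
    have h1 : th0 (z + w) = 0 := by
      have h3 := hz w
      rw [hw2] at h3
      rw [th0_qf, h0', add_assoc, ← h3]
      rfl
    refine key (fun v => th0 v + form (z + w) v) (hpl _ h1) fun v => ?_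
    have h4 : ∀ v, th0 v + form (z + w) v = θ v + form w v := by
      intro v
      rw [hz v, form_add_left]
      ring
    change th0 (x • v) + form (z + w) (x • v) = th0 v + form (z + w) v
    rw [h4, h4, hinv]
    congr 1
    conv_lhs => rw [← hw1]
    exact form_smul x w v

/-- **The element `x`.** -/
theorem exists_x {p : ℕ} [hp : Fact p.Prime] (hp2 : p ≠ 2) {e m : ℕ} (hd : ∀ j, p ∣ 2 ^ j - 1 ↔ 2 * e ∣ j)
    (hn : n = e + m) (hm : 1 ≤ m) :
    ∃ x : Sp n, (∃ k, x ^ p ^ k = 1) ∧ (∀ L : Lag n, x • L ≠ L) ∧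
      (∃ u v : Vv n, x • u = u ∧ x • v = v ∧ form u v = 1) ∧ ∃ θ : QP n, x • θ = θ := by
  have hpo : Odd p := hp.out.odd_of_ne_two hp2
  subst hn
  obtain ⟨m, rfl⟩ : ∃ m', m = m' + 1 := ⟨m - 1, by omega⟩
  have hall : ∀ m, ∃ x : Sp (e + m), Good p x := by
    intro m
    induction m with
    | zero => exact exists_good hp2 hd
    | succ m ih =>
      obtain ⟨x, hx⟩ := ih
      exact ⟨emb x, hx.emb hpo⟩
  obtain ⟨x, hx⟩ := hall m
  have hx' := hx.emb hpo
  have h0 : x • (0 : Vv (e + m)) = 0 := map_zero (x : Vv (e + m) ≃ₗ[ZMod 2] Vv (e + m))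
  have hfix : ∀ c d : ZMod 2, emb x • (cn c d (0 : Vv (e + m))) = cn c d 0 := by
    intro c d
    rw [emb_smul, tl_cn, h0]
    rfl
  have hform : form (cn 1 0 (0 : Vv (e + m))) (cn 0 1 (0 : Vv (e + m))) = 1 := by
    rw [form_succ, tl_cn, form_zero_left]
    change (1 : ZMod 2) * 1 + 0 * 0 + 0 = 1
    ring
  obtain ⟨k, hk⟩ := hx'.ord
  refine ⟨emb x, ⟨k, hk⟩, hx'.no_lag hpo, ⟨_, _, hfix 1 0, hfix 0 1, hform⟩, ?_⟩
  exact exists_plus (hpo.pow (n := k)) hk (hfix 1 0) (hfix 0 1) hform

end Cfsg.Agent.H743.EP.SpX
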