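import Cfsg.Agent.H743.EP.EvenTwo
import Cfsg.Agent.FixBN.OfBN
import Cfsg.Agent.S0320

/-!
# Even degrees for a split (B,N)-pair of rank two in characteristic two (helper743)
-/

set_option autoImplicit false
set_option linter.unusedSectionVars false

universe u

namespace Cfsg.Agent.H743.EP

open MulAction Cfsg Cfsg.Agent.Characters.Core Cfsg.Agent.Tits.Core Cfsg.Agent.Tits.Core.Bldg
  Cfsg.Agent.Tits.Exchange Cfsg.Agent.FixBN Cfsg.Agent.Tits Cfsg.Agent.H114.StRegular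
  Cfsg.Agent.Tits.OfBN Cfsg.Agent.Tits.OppRes Cfsg.Agent.LieExceptional.BNPairCore
open scoped ComplexConjugate

theorem even_bn {G : Type u} [Group G] [Finite G] {P : Cfsg.BNPair G} {U : Subgroup G} (Sp : Split P 2 U) {a b : G}
    (hPS : P.S = {a, b}) (hab : a ≠ b) (hR : ∀ u ∈ U, a⁻¹ * u * a ∈ U → b⁻¹ * u * b ∈ U → u ∈ ⁅U, U⁆) {χ : G → ℂ}
    (hχ : IsIrrCharacter G χ) (hχ1 : χ ≠ 1) (hB : ∑ᶠ y : P.B, χ y ≠ 0) {n : ℕ} (hn : χ 1 = n) : 2 ∣ n := by
  classical
  have hfact : Fact (Nat.Prime 2) := ⟨Nat.prime_two⟩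
  have hN := normal_subgroupOf P
  obtain ⟨M', cs', hcs'⟩ := S0320.result P
  have m1 : a ∈ P.S := by rw [hPS]; exact Set.mem_insert _ _
  have m2 : b ∈ P.S := by rw [hPS]; exact Set.mem_insert_of_mem _ rfl
  let f : Fin 2 → P.S := ![⟨a, m1⟩, ⟨b, m2⟩]
  have hf : Function.Bijective f := by
    constructor
    · intro i j hij
      fin_cases i <;> fin_cases j
      · rfl
      · exact absurd (congrArg Subtype.val hij) hab
      · exact absurd (congrArg Subtype.val hij).symm hab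
      · rfl
    · rintro ⟨x, hx⟩
      have h1 := hx
      rw [hPS] at h1
      rcases h1 with rfl | rfl
      · exact ⟨0, rfl⟩
      · exact ⟨1, rfl⟩
  let e : Fin 2 ≃ P.S := _root_.Equiv.ofBijective f hf
  set cs := cs'.reindex e.symm with hcsdef
  have hcs : ∀ i, cs.simple i = QuotientGroup.mk (⟨(e i : G), P.subset (e i).2⟩ : P.N) := fun i => by
    rw [hcsdef, CoxeterSystem.reindex_simple, hcs']
    rfl
  have hW : Finite (WP P) := inferInstance
  have Fc : Cox cs := inferInstance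
  have : Fintype (G ⧸ P.B) := Fintype.ofFinite _
  set Δ := bldg P e cs hcs with hΔ
  set S := FixBN.OfBN.sys e cs hcs Sp with hS
  set c : G ⧸ P.B := QuotientGroup.mk 1 with hc
  have hth : Δ.Thick := thick P e cs hcs
  have htr : ∀ x y x' y', Δ.δ x y = Δ.δ x' y' → ∃ g : G, g • x = x' ∧ g • y = y' :=
    fun x y x' y' hd => Cfsg.Agent.Tits.OfBN.trans P x y x' y' hd
  -- the apartment
  let ap : WP P → G ⧸ P.B := fun w => QuotientGroup.mk ((w.out : P.N) : G)
  have hap : ∀ v w, Δ.δ (ap v) (ap w) = v⁻¹ * w := by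
    intro v w
    show dist P (QuotientGroup.mk ((v.out : P.N) : G)) (QuotientGroup.mk ((w.out : P.N) : G)) = _
    rw [dist_mk]
    have h1 : ((v.out : P.N) : G)⁻¹ * ((w.out : P.N) : G) = ((v.out⁻¹ * w.out : P.N) : G) := by push_cast; rfl
    rw [h1, wt_of_mem P (n := v.out⁻¹ * w.out) (LieExceptional.BNPairCore.self_mem_C _), QuotientGroup.mk_mul,
      QuotientGroup.mk_inv, QuotientGroup.out_eq', QuotientGroup.out_eq']
  -- the subgroup `U`
  have hSU : ∀ (g u : G), u ∈ S.U (QuotientGroup.mk g) ↔ g⁻¹ * u * g ∈ U := fun g u => FixBN.OfBN.mem_UU Sp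
  have hSU1 : S.U c = U := by
    ext u
    rw [hc, hSU]
    simp
  have hVj : ∀ i (u : S.U c), u ∈ Vj S c i → ((e i : P.S) : G)⁻¹ * (u : G) * ((e i : P.S) : G) ∈ U := by
    intro i u hu
    rw [← hSU]
    refine hu _ ?_
    rw [← Pan_eq_Res]
    right
    show dist P (QuotientGroup.mk 1) (QuotientGroup.mk ((e i : P.S) : G)) = _
    rw [dist_mk, inv_one, one_mul, hcs,
      wt_of_mem P (n := (⟨((e i : P.S) : G), P.subset (e i).2⟩ : P.N)) (LieExceptional.BNPairCore.self_mem_C _)]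
  have hR' : Vj S c 0 ⊓ Vj S c 1 ≤ commutator (S.U c) := by
    intro u hu
    have h1 := hVj 0 u hu.1
    have h2 := hVj 1 u hu.2
    have hu' : (u : G) ∈ U := by rw [← hSU1]; exact u.2
    have h6 : ⁅U, U⁆ = ⁅S.U c, S.U c⁆ := by rw [hSU1]
    have h3 : (u : G) ∈ ⁅S.U c, S.U c⁆ := by
      rw [← h6]
      exact hR u hu' h1 h2
    have h4 : ⁅S.U c, S.U c⁆ = Subgroup.map (S.U c).subtype ⁅(⊤ : Subgroup ↥(S.U c)), ⊤⁆ := by
      rw [Subgroup.map_commutator, ← MonoidHom.range_eq_map, Subgroup.range_subtype]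
    rw [h4] at h3
    obtain ⟨v, hv, hvu⟩ := h3
    have h5 : v = u := Subtype.ext hvu
    rw [← h5]
    exact hv
  have hstab : stabRes Δ S.iso c ∅ = P.B := by
    ext g
    rw [mem_B S, hc, FixBN.OfBN.smul_mk_eq]
    simp
  have hB' : ∑ᶠ y : ↥(stabRes Δ S.iso c ∅), χ y ≠ 0 := by
    rw [hstab]
    exact hB
  exact even_two S hth htr ap hap (i := 0) (j := 1) (by decide) (by decide) c hR' hχ hχ1 hB' hn

end Cfsg.Agent.H743.EP
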