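import Cfsg.Agent.H743.EP.Pan

/-!
# The constituents of `1_B^G` for a split (B,N)-pair of rank two in characteristic two have even degree (helper743)

`even_two` : `V_i ∩ V_j ≤ [U, U]`, `χ` a nontrivial constituent of `1_B^G`: `χ(1)` is even.
-/

set_option autoImplicit false
set_option linter.unusedSectionVars false

namespace Cfsg.Agent.H743.EP

open MulAction Cfsg Cfsg.Agent.Characters.Core Cfsg.Agent.H969.TT.Count Cfsg.Agent.H969.TT.TopAbs
  Cfsg.Agent.H969.TT.TopRGD Cfsg.Agent.Tits.Core Cfsg.Agent.Tits.Core.Bldg Cfsg.Agent.Tits.Exchange Cfsg.Agent.FixBN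
  Cfsg.Agent.Tits Cfsg.Agent.H330.ClassRes Cfsg.Agent.H114.StRegular Cfsg.Agent.H167.AltBldg
open scoped ComplexConjugate

variable {I : Type*} {M : CoxeterMatrix I} {W : Type*} [Group W] {cs : CoxeterSystem M W} {C : Type*}
  {Δ : Bldg cs C} {G : Type*} [Group G] [MulAction G C] {p : ℕ} (S : Sys Δ G p)

local prefix:100 "ℓ" => cs.length

variable [DecidableEq I] [Finite W] [F : OppRes.Cox cs]

/-- the chambers are the cosets of `B` -/
theorem fpc_eq [Finite G] (ht : ∀ x y : C, ∃ g : G, g • x = y) (c : C) :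
    fixedPointCharacter (stabRes Δ S.iso c ∅) = fun g : G => (Nat.card (fixedBy C g) : ℂ) := by
  have hwd : ∀ a b : G, (QuotientGroup.leftRel (stabRes Δ S.iso c ∅)) a b → a • c = b • c := by
    intro a b hab
    rw [QuotientGroup.leftRel_apply, mem_B S, mul_smul, inv_smul_eq_iff] at hab
    exact hab.symm
  let e : G ⧸ (stabRes Δ S.iso c ∅) → C := Quotient.lift (fun g : G => g • c) hwd
  have he : ∀ g : G, e (QuotientGroup.mk g) = g • c := fun g => rfl
  have heq : ∀ (g : G) (x : G ⧸ (stabRes Δ S.iso c ∅)), e (g • x) = g • e x := by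
    intro g x
    obtain ⟨y, rfl⟩ := QuotientGroup.mk_surjective x
    change e (QuotientGroup.mk (g * y)) = _
    rw [he, he, mul_smul]
  have hbij : Function.Bijective e := by
    constructor
    · intro x y h
      obtain ⟨x, rfl⟩ := QuotientGroup.mk_surjective x
      obtain ⟨y, rfl⟩ := QuotientGroup.mk_surjective y
      rw [he, he] at h
      rw [QuotientGroup.eq, mem_B S, mul_smul, ← h, inv_smul_smul]
    · intro z
      obtain ⟨g, rfl⟩ := ht c z
      exact ⟨QuotientGroup.mk g, rfl⟩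
  funext g
  rw [fixedPointCharacter]
  congr 1
  refine Nat.card_congr ((Equiv.ofBijective e hbij).subtypeEquiv fun x => ?_)
  change g • x = x ↔ g • e x = e x
  rw [← heq]
  exact ⟨fun h => by rw [h], fun h => hbij.1 h⟩

/-- the number of fixed vectors decreases -/
theorem fixed_le [Finite G] (B U : Subgroup G) [Fintype B] [Fintype U] (hUB : U ≤ B) {θ : G → ℂ} (hθ : IsCharacter G θ)
    {b c : ℕ} (hb : ∑ y : B, θ y = (Nat.card B : ℂ) * b) (hc : tw U 1 θ = (Nat.card U : ℂ) * c) : b ≤ c := by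
  have : Fintype ↥(U.subgroupOf B) := Fintype.ofFinite _
  set e := Subgroup.subgroupOfEquivOfLe hUB with he
  refine le_of_irr (U.subgroupOf B) 1 isIrr_one ?_ (isCharacter_comp B.subtype hθ) (c := c) (s := b) ?_ ?_
  · unfold tw
    simp [Nat.card_eq_fintype_card]
  · rw [Nat.card_congr e.toEquiv, ← hc]
    unfold tw
    exact Fintype.sum_equiv e.toEquiv _ _ fun u => rfl
  · rw [classInner_def]
    simp only [Pi.one_apply, map_one, mul_one]
    have h1 : ∑ y : B, (θ ∘ B.subtype) y = ∑ y : B, θ y := rfl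
    rw [h1, hb, ← mul_assoc, inv_mul_cancel₀ card_ne_zero_complex, one_mul]

theorem tw_one (H : Subgroup G) [Fintype H] (F : G → ℂ) : tw H 1 F = ∑ y : H, F y := by
  unfold tw
  simp

theorem tw_perm [Finite C] (H : Subgroup G) [Finite G] [Fintype H] (ψ : H →* ℂˣ) :
    tw H ψ (fun g : G => (Nat.card (fixedBy C g) : ℂ)) = (Nat.card H : ℂ) * (mult C ψ.ker : ℂ) := by
  have : Fintype C := Fintype.ofFinite _
  exact sum_char (U := H) (Ω := C) ψ

theorem tw_perm_one [Finite C] (H : Subgroup G) [Finite G] [Fintype H] :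
    tw H 1 (fun g : G => (Nat.card (fixedBy C g) : ℂ)) = (Nat.card H : ℂ) * (nOrb H C : ℂ) := by
  rw [tw_perm, MonoidHom.ker_one, mult_top]
  rfl

theorem card_opp (c : C) : Nat.card {y // Δ.Opp c y} = Nat.card ↥(S.U c) := by
  obtain ⟨y0, hy0⟩ := Δ.exists_δ c (w0 cs)
  have h1 : ∀ u : S.U c, Δ.Opp c ((u : G) • y0) := by
    intro u
    have h2 := S.iso (u : G) c y0
    rw [S.fix c u u.2] at h2
    exact h2.trans hy0
  symm
  refine Nat.card_congr (Equiv.ofBijective (fun u : S.U c => (⟨(u : G) • y0, h1 u⟩ : {y // Δ.Opp c y})) ⟨?_, ?_⟩)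
  · intro u v h
    have h2 : (u : G) • y0 = (v : G) • y0 := congrArg Subtype.val h
    have h3 := S.free c y0 hy0 ((v : G)⁻¹ * u) (mul_mem (inv_mem v.2) u.2) (by rw [mul_smul, h2, inv_smul_smul])
    exact Subtype.ext (inv_mul_eq_one.1 h3).symm
  · rintro ⟨y, hy⟩
    obtain ⟨u, hu, e⟩ := S.trans c y0 y hy0 hy
    exact ⟨⟨u, hu⟩, Subtype.ext e⟩

theorem Vj_ne_top (hth : Δ.Thick) (c : C) (j : I) : Vj S c j ≠ ⊤ := by
  intro h
  obtain ⟨y, z, hyz, hy, hz⟩ := hth c j
  obtain ⟨u, hu, e⟩ := S.exists_move (x := c) (z := y) (z' := z) (hy.trans hz.symm)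
  have h1 : (⟨u, hu⟩ : S.U c) ∈ Vj S c j := by rw [h]; exact Subgroup.mem_top _
  have h2 := Vj_fix S h1 (z := y) (Or.inr hy)
  exact hyz (h2.symm.trans e)

section Main

variable [Fintype I] [Fintype C]

theorem st_eq [Finite G] (c : C) {i j : I} (hij : i ≠ j) (hI : (Finset.univ : Finset I) = {i, j}) (g : G) :
    (∑ K ∈ (Finset.univ : Finset I).powerset, (-1 : ℂ) ^ K.card * fixedPointCharacter (stabRes Δ S.iso c K) g) =
      fixedPointCharacter (stabRes Δ S.iso c ∅) g - fixedPointCharacter (stabRes Δ S.iso c {i}) g -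
        fixedPointCharacter (stabRes Δ S.iso c {j}) g + 1 := by
  have h2 : fixedPointCharacter (stabRes Δ S.iso c ({i, j} : Finset I)) g = 1 := by
    have h3 : stabRes Δ S.iso c ({i, j} : Finset I) = ⊤ := by
      rw [eq_top_iff]
      intro g _
      rw [← hI, mem_stabRes, Finset.coe_univ]
      exact mem_WJ_univ cs _
    rw [h3, fixedPointCharacter]
    have h4 : Subsingleton (G ⧸ (⊤ : Subgroup G)) := QuotientGroup.subsingleton_quotient_top
    have h5 : Nat.card (MulAction.fixedBy (G ⧸ (⊤ : Subgroup G)) g) = 1 := by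
      rw [Nat.card_eq_one_iff_unique]
      exact ⟨⟨fun a b => Subtype.ext (Subsingleton.elim _ _)⟩, ⟨⟨QuotientGroup.mk 1, Subsingleton.elim _ _⟩⟩⟩
    rw [h5, Nat.cast_one]
  rw [hI, Finset.sum_powerset_insert (by simpa using hij), ← LawfulSingleton.insert_empty_eq j,
    Finset.sum_powerset_insert (Finset.notMem_empty j), Finset.sum_powerset_insert (Finset.notMem_empty j)]
  simp only [Finset.powerset_empty, Finset.sum_singleton, Finset.card_empty, pow_zero, one_mul]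
  rw [LawfulSingleton.insert_empty_eq, LawfulSingleton.insert_empty_eq, h2, Finset.card_singleton, Finset.card_singleton,
    Finset.card_pair hij]
  ring

theorem even_two (S : Sys Δ G 2) [Finite G] (hth : Δ.Thick)
    (htr : ∀ x y x' y', Δ.δ x y = Δ.δ x' y' → ∃ g : G, g • x = x' ∧ g • y = y')
    (a : W → C) (ha : ∀ v w, Δ.δ (a v) (a w) = v⁻¹ * w) {i j : I} (hij : i ≠ j) (hI : (Finset.univ : Finset I) = {i, j})
    (c : C) (hR : Vj S c i ⊓ Vj S c j ≤ commutator (S.U c)) {χ : G → ℂ}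
    (hχ : IsIrrCharacter G χ) (hχ1 : χ ≠ 1) (hB : ∑ᶠ y : ↥(stabRes Δ S.iso c ∅), χ y ≠ 0) {n : ℕ} (hn : χ 1 = n) :
    2 ∣ n := by
  classical
  have : Fact (Nat.Prime 2) := ⟨Nat.prime_two⟩
  have : Fintype G := Fintype.ofFinite _
  have : Fintype (IrrCharacter G) := @Fintype.ofFinite _ finite_irr
  have : Fintype ↥(S.U c) := Fintype.ofFinite _
  have : ∀ K, Fintype ↥(stabRes Δ S.iso c K) := fun K => Fintype.ofFinite _
  have : Fintype (↥(S.U c) →* ℂˣ) := Fintype.ofFinite _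
  have ht : ∀ x y : C, ∃ g : G, g • x = y := by
    intro x y
    obtain ⟨g, hg, -⟩ := htr x x y y (by rw [(Δ.eq_one x x).2 rfl, (Δ.eq_one y y).2 rfl])
    exact ⟨g, hg⟩
  have hij' : cs.simple i ≠ cs.simple j := fun h => hij (F.inj h)
  have hI' : ∀ k, k = i ∨ k = j := by
    intro k
    have := Finset.mem_univ k
    rw [hI] at this
    simpa using this
  have hU0 : (Nat.card ↥(S.U c) : ℂ) ≠ 0 := card_ne_zero_complex
  -- the multiplicities
  have hb : ∀ θ : IrrCharacter G, ∃ b : ℕ, ∑ y : ↥(stabRes Δ S.iso c ∅), (θ : G → ℂ) y =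
      (Nat.card ↥(stabRes Δ S.iso c ∅) : ℂ) * b := by
    intro θ
    obtain ⟨b, hb⟩ := exists_tw (stabRes Δ S.iso c ∅) 1 (isIrr_isCharacter θ.2)
    exact ⟨b, by rw [← hb, tw_one]⟩
  choose b hb using hb
  have hA : ∀ (k : I) (θ : IrrCharacter G), ∃ b : ℕ, ∑ y : ↥(stabRes Δ S.iso c {k}), (θ : G → ℂ) y =
      (Nat.card ↥(stabRes Δ S.iso c {k}) : ℂ) * b := by
    intro k θ
    obtain ⟨b, hb⟩ := exists_tw (stabRes Δ S.iso c {k}) 1 (isIrr_isCharacter θ.2)
    exact ⟨b, by rw [← hb, tw_one]⟩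
  choose A hA using hA
  have hc : ∀ (ψ : ↥(S.U c) →* ℂˣ) (θ : IrrCharacter G), ∃ d : ℕ, tw (S.U c) ψ (θ : G → ℂ) =
      (Nat.card ↥(S.U c) : ℂ) * d := fun ψ θ => exists_tw (S.U c) ψ (isIrr_isCharacter θ.2)
  choose d hd using hc
  -- the permutation character
  obtain ⟨m, hm⟩ := exists_nat_comb (isCharacter_perm (Y := G) (Ω := C))
  have hmb : m = b := by
    funext θ
    have h1 := classInner_sum_nsmul_irr m θ
    have h2 := classInner_fpc_eq (stabRes Δ S.iso c ∅) (isIrr_isClassFunction θ.2) (hb θ)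
    rw [← hm, ← fpc_eq S ht c, ← classInner_conj_symm, h2, Complex.conj_natCast] at h1
    exact_mod_cast h1.symm
  rw [hmb] at hm
  have hsumU : ∀ ψ : ↥(S.U c) →* ℂˣ, ∑ θ, b θ * d ψ θ = mult C ψ.ker := by
    intro ψ
    have h1 := tw_perm (C := C) (S.U c) ψ
    rw [hm, tw_sum (S.U c) ψ b _ (d ψ) (hd ψ)] at h1
    exact_mod_cast mul_left_cancel₀ hU0 h1
  have hsumH : ∀ (H : Subgroup G) [Fintype H] (x : IrrCharacter G → ℕ), (∀ θ : IrrCharacter G, ∑ y : H, (θ : G → ℂ) y =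
      (Nat.card H : ℂ) * x θ) → ∑ θ, b θ * x θ = nOrb H C := by
    intro H _ x hx
    have h1 := tw_perm_one (C := C) H
    rw [hm, tw_sum H 1 b _ x (fun θ => by rw [tw_one, hx])] at h1
    exact_mod_cast mul_left_cancel₀ card_ne_zero_complex h1
  have hBB : ∑ θ, b θ * b θ = Nat.card W := by rw [hsumH _ b hb, nOrb_B S c]
  have hPP : ∀ k, ∑ θ, b θ * A k θ = Nat.card {w : W // ℓ w < ℓ (cs.simple k * w)} := fun k => by
    rw [hsumH _ (A k) (hA k), nOrb_P S ht c k]
  -- equality in the inequalities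
  have heq : ∀ x : IrrCharacter G → ℕ, (∀ θ, b θ ≤ x θ) → ∑ θ, b θ * x θ = Nat.card W → ∀ θ, b θ ≠ 0 → b θ = x θ := by
    intro x hx hs θ hθ
    rw [← hBB] at hs
    have h1 := (Finset.sum_eq_sum_iff_of_le (fun θ _ => Nat.mul_le_mul_left (b θ) (hx θ))).1 hs.symm θ
      (Finset.mem_univ θ)
    exact Nat.eq_of_mul_eq_mul_left (Nat.pos_of_ne_zero hθ) h1
  have h1 : ∀ θ, b θ ≠ 0 → b θ = d 1 θ := by
    refine heq _ (fun θ => fixed_le (stabRes Δ S.iso c ∅) (S.U c) (U_le_B' S c) (isIrr_isCharacter θ.2) (hb θ)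
      (hd 1 θ)) ?_
    rw [hsumU, MonoidHom.ker_one, mult_top]
    exact nOrb_U S c
  have h2 : ∀ (k : I) (ψ : ↥(S.U c) →* ℂˣ), ψ ≠ 1 → Vj S c k ≤ ψ.ker → ∀ θ, b θ ≠ 0 → b θ = A k θ + d ψ θ := by
    intro k ψ hψ hV
    have hker : ψ.ker ≠ ⊤ := by
      intro h
      apply hψ
      ext u
      have h1 : u ∈ ψ.ker := by rw [h]; exact Subgroup.mem_top u
      rw [MonoidHom.mem_ker.1 h1, MonoidHom.one_apply]
    refine heq _ (fun θ => b_le S ht ψ hψ hV (isIrr_isCharacter θ.2) (hA k θ) (hb θ) (hd ψ θ)) ?_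
    have h3 : ∀ θ, b θ * (A k θ + d ψ θ) = b θ * A k θ + b θ * d ψ θ := fun θ => mul_add _ _ _
    rw [Finset.sum_congr rfl fun θ _ => h3 θ, Finset.sum_add_distrib, hPP, hsumU, mult_j S hth ht hker hV]
    have h4 : ∀ w : W, ℓ (cs.simple k * w) < ℓ w ↔ ¬ ℓ w < ℓ (cs.simple k * w) := by
      intro w
      rcases cs.length_simple_mul w k with h5 | h5 <;> omega
    rw [Nat.card_congr (Equiv.subtypeEquivRight h4), ← Nat.card_sum]
    exact Nat.card_congr (Equiv.sumCompl fun w : W => ℓ w < ℓ (cs.simple k * w))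
  -- the Steinberg character
  obtain ⟨hirr, hval⟩ := exists_char_alt Δ S.iso htr a ha c (fun K => stabRes Δ S.iso c K)
    fun K g => mem_stabRes Δ S.iso
  set St : G → ℂ := fun g => ∑ K ∈ (Finset.univ : Finset I).powerset, (-1 : ℂ) ^ K.card *
    fixedPointCharacter (stabRes Δ S.iso c K) g with hSt
  have hSt' : St = fixedPointCharacter (stabRes Δ S.iso c ∅) - fixedPointCharacter (stabRes Δ S.iso c {i}) -
      fixedPointCharacter (stabRes Δ S.iso c {j}) + 1 := funext fun g => st_eq S c hij hI g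
  have hSU : ∀ u : ↥(S.U c), St u = if u = 1 then (Nat.card ↥(S.U c) : ℂ) else 0 := by
    intro u
    have h3 := hval c u (S.fix c u u.2)
    rw [hSt]
    beta_reduce
    rw [h3]
    split_ifs with hu
    · rw [← card_opp S c]
      congr 1
      refine Nat.card_congr (Equiv.subtypeEquivRight fun y => ?_)
      rw [hu, Subgroup.coe_one, one_smul]
      simp
    · rw [Nat.cast_eq_zero, Nat.card_eq_zero]
      left
      refine ⟨fun y => hu ?_⟩
      exact Subtype.ext (S.free c y.1 y.2.1 u u.2 y.2.2)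
  have hcU : 2 ∣ Nat.card ↥(S.U c) := by
    obtain ⟨k, hk⟩ := IsPGroup.iff_card.1 (S.isP c)
    rcases Nat.eq_zero_or_pos k with rfl | hk0
    · exfalso
      rw [pow_zero] at hk
      have h3 : Subsingleton ↥(S.U c) := (Nat.card_eq_one_iff_unique.1 hk).1
      apply Vj_ne_top S hth c i
      rw [eq_top_iff]
      intro u _
      rw [Subsingleton.elim u 1]
      exact one_mem _
    · rw [hk]
      exact dvd_pow_self 2 (by omega)
  -- the Steinberg character itself
  by_cases hχSt : χ = St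
  · have h3 : (n : ℂ) = (Nat.card ↥(S.U c) : ℂ) := by
      have h4 := hSU 1
      rw [if_pos rfl, Subgroup.coe_one, ← hχSt, hn] at h4
      exact h4
    have h4 : n = Nat.card ↥(S.U c) := by exact_mod_cast h3
    rw [h4]
    exact hcU
  have hinner : ∀ θ : IrrCharacter G, classInner (θ : G → ℂ) St = (b θ : ℂ) - A i θ - A j θ + classInner (θ : G → ℂ) 1 := by
    intro θ
    rw [hSt', classInner_add_right, classInner_sub_right, classInner_sub_right,
      classInner_fpc_eq (stabRes Δ S.iso c ∅) (isIrr_isClassFunction θ.2) (hb θ),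
      classInner_fpc_eq (stabRes Δ S.iso c {i}) (isIrr_isClassFunction θ.2) (hA i θ),
      classInner_fpc_eq (stabRes Δ S.iso c {j}) (isIrr_isClassFunction θ.2) (hA j θ)]
  have hn1 : ∀ u : ↥(S.U c), u ≠ 1 → St u = 0 := fun u hu => by rw [hSU, if_neg hu]
  -- `St` is not the trivial character
  have hStne : St ≠ 1 := by
    intro h
    have h3 : Nontrivial ↥(S.U c) := by
      rw [← Finite.one_lt_card_iff_nontrivial]
      exact lt_of_lt_of_le one_lt_two (Nat.le_of_dvd Nat.card_pos hcU)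
    obtain ⟨u, hu⟩ := exists_ne (1 : ↥(S.U c))
    have h4 := hn1 u hu
    rw [h, Pi.one_apply] at h4
    exact one_ne_zero h4
  have hbSt : b ⟨St, hirr⟩ ≠ 0 := by
    intro h0
    have h3 := hinner ⟨St, hirr⟩
    have h4 : classInner ((⟨St, hirr⟩ : IrrCharacter G) : G → ℂ) St = 1 := classInner_irr_self hirr
    have h5 : classInner ((⟨St, hirr⟩ : IrrCharacter G) : G → ℂ) 1 = 0 := classInner_irr_ne hirr isIrr_one hStne
    rw [h4, h5, h0, Nat.cast_zero, add_zero, zero_sub] at h3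
    have h6 : ((1 + A i ⟨St, hirr⟩ + A j ⟨St, hirr⟩ : ℕ) : ℂ) = ((0 : ℕ) : ℂ) := by
      push_cast
      rw [h3]
      ring
    have h7 : 1 + A i ⟨St, hirr⟩ + A j ⟨St, hirr⟩ = 0 := by exact_mod_cast h6
    omega
  have hdSt : ∀ ψ : ↥(S.U c) →* ℂˣ, d ψ ⟨St, hirr⟩ = 1 := by
    intro ψ
    have h3 := hd ψ ⟨St, hirr⟩
    have h4 : tw (S.U c) ψ ((⟨St, hirr⟩ : IrrCharacter G) : G → ℂ) = (Nat.card ↥(S.U c) : ℂ) := by
      change tw (S.U c) ψ St = _
      unfold tw
      rw [Finset.sum_eq_single 1]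
      · rw [inv_one, map_one, Units.val_one, one_mul, hSU, if_pos rfl]
      · intro u _ hu
        rw [hn1 u hu, mul_zero]
      · intro h5
        exact absurd (Finset.mem_univ _) h5
    rw [h4] at h3
    have h5 : (Nat.card ↥(S.U c) : ℂ) * ((1 : ℕ) : ℂ) = (Nat.card ↥(S.U c) : ℂ) * (d ψ ⟨St, hirr⟩ : ℂ) := by
      rw [← h3, Nat.cast_one, mul_one]
    exact_mod_cast (mul_left_cancel₀ hU0 h5).symm
  -- our character
  set θ : IrrCharacter G := ⟨χ, hχ⟩ with hθ
  have hθSt : θ ≠ ⟨St, hirr⟩ := fun h => hχSt (congrArg Subtype.val h)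
  have hbθ : b θ ≠ 0 := by
    intro h0
    apply hB
    have h3 := hb θ
    rw [h0, Nat.cast_zero, mul_zero] at h3
    rw [finsum_eq_sum_of_fintype]
    exact h3
  have hrel : b θ = A i θ + A j θ := by
    have h3 := hinner θ
    have h4 : classInner (θ : G → ℂ) St = 0 := classInner_irr_ne hχ hirr hχSt
    have h5 : classInner (θ : G → ℂ) 1 = 0 := classInner_irr_ne hχ isIrr_one hχ1
    rw [h4, h5, add_zero] at h3
    have h6 : ((b θ : ℕ) : ℂ) = ((A i θ + A j θ : ℕ) : ℂ) := by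
      push_cast
      rw [← sub_eq_zero, h3]
      ring
    exact_mod_cast h6
  have hgen : ∀ ψ : ↥(S.U c) →* ℂˣ, ¬ Vj S c i ≤ ψ.ker → ¬ Vj S c j ≤ ψ.ker → d ψ θ = 0 := by
    intro ψ hi hj
    have h3 : Vj S c i ⊓ Vj S c j ≤ ψ.ker := hR.trans (Abelianization.commutator_subset_ker ψ)
    have h4 := hsumU ψ
    rw [mult_gen S hth ht hij' hI' h3 hi hj] at h4
    by_contra hne
    have h5 : b θ * d ψ θ + b ⟨St, hirr⟩ * d ψ ⟨St, hirr⟩ ≤ 1 := by
      rw [← h4, ← Finset.sum_pair (f := fun θ => b θ * d ψ θ) hθSt]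
      exact Finset.sum_le_sum_of_subset (Finset.subset_univ _)
    rw [hdSt, mul_one] at h5
    have h6 : 0 < b θ * d ψ θ := Nat.mul_pos (Nat.pos_of_ne_zero hbθ) (Nat.pos_of_ne_zero hne)
    omega
  have hval : ∀ ψ : ↥(S.U c) →* ℂˣ, d ψ θ = (if ψ = 1 then b θ else 0) +
      (if ψ ≠ 1 ∧ Vj S c i ≤ ψ.ker then A j θ else 0) + (if ψ ≠ 1 ∧ Vj S c j ≤ ψ.ker then A i θ else 0) := by
    intro ψ
    by_cases h3 : ψ = 1
    · subst h3
      simp [h1 θ hbθ]
    · rw [if_neg h3]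
      by_cases hi : Vj S c i ≤ ψ.ker
      · by_cases hj : Vj S c j ≤ ψ.ker
        · exfalso
          apply h3
          have h4 := eq_top_of_both S hth ht hij' hi hj
          ext u
          have h5 : u ∈ ψ.ker := by rw [h4]; exact Subgroup.mem_top u
          rw [MonoidHom.mem_ker.1 h5, MonoidHom.one_apply]
        · rw [if_pos ⟨h3, hi⟩, if_neg fun h => hj h.2]
          have := h2 i ψ h3 hi θ hbθ
          omega
      · rw [if_neg fun h => hi h.2]
        by_cases hj : Vj S c j ≤ ψ.ker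
        · rw [if_pos ⟨h3, hj⟩]
          have := h2 j ψ h3 hj θ hbθ
          omega
        · rw [if_neg fun h => hj h.2, hgen ψ hi hj]
  obtain ⟨k, hk⟩ := parity_two (S.U c) (S.isP c) (isIrr_isCharacter hχ) (fun ψ => d ψ θ) (fun ψ => hd ψ θ) hn
  have := Vj_normal S c i
  have := Vj_normal S c j
  obtain ⟨x, hx⟩ := odd_card (S.isP c) (Vj_ne_top S hth c i)
  obtain ⟨y, hy⟩ := odd_card (S.isP c) (Vj_ne_top S hth c j)
  rw [Finset.sum_congr rfl fun ψ _ => hval ψ, Finset.sum_add_distrib, Finset.sum_add_distrib,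
    Finset.sum_ite_eq' Finset.univ (1 : ↥(S.U c) →* ℂˣ), if_pos (Finset.mem_univ _), ← Finset.sum_filter,
    ← Finset.sum_filter, Finset.sum_const, Finset.sum_const, smul_eq_mul, smul_eq_mul] at hk
  rw [hk]
  have e1 : (Finset.univ.filter fun ψ : ↥(S.U c) →* ℂˣ => ψ ≠ 1 ∧ Vj S c i ≤ ψ.ker).card = 2 * x + 1 := by
    convert hx
  have e2 : (Finset.univ.filter fun ψ : ↥(S.U c) →* ℂˣ => ψ ≠ 1 ∧ Vj S c j ≤ ψ.ker).card = 2 * y + 1 := by
    convert hy
  rw [e1, e2, hrel]
  exact ⟨A i θ + A j θ + x * A j θ + y * A i θ + k, by ring⟩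

end Main

end Cfsg.Agent.H743.EP
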