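import Cfsg.Agent.H743.EP.Par
import Cfsg.Agent.H330.ClassRes
import Cfsg.Agent.H167.AltBldg

/-!
# Orbits of the unipotent radical, the Borel subgroup and the minimal parabolic subgroups on the chambers (helper743)
-/

set_option autoImplicit false
set_option linter.unusedSectionVars false

namespace Cfsg.Agent.H743.EP

open MulAction Cfsg Cfsg.Agent.Characters.Core Cfsg.Agent.H969.TT.Count Cfsg.Agent.H969.TT.TopAbs
  Cfsg.Agent.H969.TT.TopRGD Cfsg.Agent.Tits.Core Cfsg.Agent.Tits.Core.Bldg Cfsg.Agent.Tits.Exchange Cfsg.Agent.FixBN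
  Cfsg.Agent.Tits Cfsg.Agent.H330.ClassRes Cfsg.Agent.H114.StRegular
open scoped ComplexConjugate

section Gen

variable {Y Ω β : Type*} [Group Y] [MulAction Y Ω]

/-- the orbits of `H` through an invariant -/
noncomputable def orbEquiv (H : Subgroup Y) (f : Ω → β) (hf : Function.Surjective f)
    (h : ∀ x y, f x = f y ↔ ∃ g ∈ H, g • x = y) : orbitRel.Quotient H Ω ≃ β :=
  Equiv.ofBijective (Quotient.lift f fun a b hab => by
    obtain ⟨g, hg⟩ := hab
    exact ((h b a).2 ⟨g, g.2, hg⟩).symm) ⟨by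
      intro a b hab
      obtain ⟨x, rfl⟩ := Quotient.mk''_surjective a
      obtain ⟨y, rfl⟩ := Quotient.mk''_surjective b
      obtain ⟨g, hg, e⟩ := (h y x).1 (show f y = f x from hab.symm)
      exact mk_eq.2 ⟨⟨g, hg⟩, e⟩, by
      intro b
      obtain ⟨x, rfl⟩ := hf b
      exact ⟨Quotient.mk'' x, rfl⟩⟩

theorem orbEquiv_mk (H : Subgroup Y) (f : Ω → β) (hf : Function.Surjective f)
    (h : ∀ x y, f x = f y ↔ ∃ g ∈ H, g • x = y) (x : Ω) :
    orbEquiv H f hf h (Quotient.mk'' x : orbitRel.Quotient H Ω) = f x := rfl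

theorem nOrb_of_map (H : Subgroup Y) (f : Ω → β) (hf : Function.Surjective f)
    (h : ∀ x y, f x = f y ↔ ∃ g ∈ H, g • x = y) : nOrb H Ω = Nat.card β :=
  Nat.card_congr (orbEquiv H f hf h)

theorem mult_of_map (U : Subgroup Y) (K : Subgroup U) [K.Normal] (f : Ω → β) (hf : Function.Surjective f)
    (h : ∀ x y, f x = f y ↔ ∃ g ∈ U, g • x = y) (Q : β → Prop) (hQ : ∀ x, stabilizer U x ≤ K ↔ Q (f x)) :
    mult Ω K = Nat.card {b // Q b} := by
  refine Nat.card_congr (Equiv.subtypeEquiv (orbEquiv U f hf h) fun O => ?_)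
  obtain ⟨x, rfl⟩ := Quotient.mk''_surjective O
  rw [good_mk, orbEquiv_mk, hQ]

end Gen

section Bld

variable {I : Type*} {M : CoxeterMatrix I} {W : Type*} [Group W] {cs : CoxeterSystem M W} {C : Type*}
  {Δ : Bldg cs C} {G : Type*} [Group G] [MulAction G C] {p : ℕ} (S : Sys Δ G p)

local prefix:100 "ℓ" => cs.length

/-- the kernel of the action of `U c` on the `j`-panel -/
def Vj (c : C) (j : I) : Subgroup (S.U c) := (S.UR (Δ.Res {j} c)).subgroupOf (S.U c)

theorem exists_near (c y : C) (j : I) : ∃ z, Δ.δ c z = cs.simple j ∧ Δ.δ z y = cs.simple j * Δ.δ c y := by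
  obtain ⟨z, h1, h2⟩ := Δ.exists_step y c j
  refine ⟨z, h1, ?_⟩
  rw [Δ.symm y z, h2, mul_inv_rev, cs.inv_simple, ← Δ.symm y c]

theorem mem_Vj {c : C} {j : I} {u : S.U c} {z : C} (hz : Δ.δ c z = cs.simple j) (h : (u : G) • z = z) :
    u ∈ Vj S c j := by
  rw [Vj, Subgroup.mem_subgroupOf]
  intro y hy
  rw [← Pan_eq_Res] at hy
  exact S.mem_U_of_fix u.2 (S.pan c z j hz u u.2 h y hy)

theorem Vj_fix {c : C} {j : I} {u : S.U c} (h : u ∈ Vj S c j) {z : C} (hz : z ∈ Δ.Pan j c) : (u : G) • z = z := by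
  rw [Vj, Subgroup.mem_subgroupOf] at h
  exact S.fix z u (h z (by rw [← Pan_eq_Res]; exact hz))

/-- the stabiliser in `U c` of a chamber whose projection to the `j`-panel is not `c` -/
theorem stab_le_Vj {c y : C} {j : I} (h : ℓ (cs.simple j * Δ.δ c y) < ℓ (Δ.δ c y)) :
    stabilizer (S.U c) y ≤ Vj S c j := by
  intro u hu
  have hu' : (u : G) • y = y := hu
  obtain ⟨z, h1, h2⟩ := exists_near (Δ := Δ) c y j
  refine mem_Vj S h1 ?_
  have hl : ℓ (cs.simple j * (cs.simple j * Δ.δ c y)) = ℓ (cs.simple j) + ℓ (cs.simple j * Δ.δ c y) := by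
    rw [cs.simple_mul_simple_cancel_left, cs.length_simple]
    rcases cs.length_simple_mul (Δ.δ c y) j with h3 | h3 <;> omega
  have h3 := S.fix c u u.2
  refine Δ.between_unique (x := c) (z := y) hl ?_ ?_ h1 h2
  · rw [← h1, ← S.iso u c z, h3]
  · rw [← h2, ← S.iso u z y, hu']

theorem u_orb {c x y : C} [F : OppRes.Cox cs] : Δ.δ c x = Δ.δ c y ↔ ∃ g ∈ S.U c, g • x = y := by
  constructor
  · intro h
    exact S.exists_move h
  · rintro ⟨g, hg, rfl⟩
    have h1 := S.iso g c x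
    rw [S.fix c g hg] at h1
    exact h1.symm

theorem mem_WJ_pair {j : I} {w : W} (h : w ∈ WJ cs ({j} : Set I)) : w = 1 ∨ w = cs.simple j := mem_WJ_singleton.1 h

variable [DecidableEq I] [Finite W]

theorem mem_B {c : C} {g : G} : g ∈ stabRes Δ S.iso c ∅ ↔ g • c = c := by
  rw [mem_stabRes, Finset.coe_empty]
  unfold WJ
  rw [Set.image_empty, Subgroup.closure_empty, Subgroup.mem_bot]
  exact ⟨fun h => (Δ.eq_of_δ_eq_one h).symm, fun h => by rw [h, Δ.δ_self]⟩

theorem mem_P {c : C} {j : I} {g : G} : g ∈ stabRes Δ S.iso c {j} ↔ g • c ∈ Δ.Pan j c := by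
  rw [mem_stabRes, Finset.coe_singleton, Pan_eq_Res]
  exact Iff.rfl

theorem U_le_B' (c : C) : S.U c ≤ stabRes Δ S.iso c ∅ := fun u hu => (mem_B S).2 (S.fix c u hu)

theorem B_le_P (c : C) (j : I) : stabRes Δ S.iso c ∅ ≤ stabRes Δ S.iso c {j} := fun g hg => by
  rw [mem_P S, (mem_B S).1 hg]
  exact Or.inl rfl

theorem b_orb {c x y : C} [F : OppRes.Cox cs] : Δ.δ c x = Δ.δ c y ↔ ∃ g ∈ stabRes Δ S.iso c ∅, g • x = y := by
  constructor
  · intro h
    obtain ⟨g, hg, e⟩ := S.exists_move h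
    exact ⟨g, U_le_B' S c hg, e⟩
  · rintro ⟨g, hg, rfl⟩
    have h1 := S.iso g c x
    rw [(mem_B S).1 hg] at h1
    exact h1.symm

theorem nOrb_U (c : C) [F : OppRes.Cox cs] : nOrb (S.U c) C = Nat.card W :=
  nOrb_of_map _ (Δ.δ c) (fun w => Δ.exists_δ c w) fun _ _ => u_orb S

theorem nOrb_B (c : C) [F : OppRes.Cox cs] : nOrb (stabRes Δ S.iso c ∅) C = Nat.card W :=
  nOrb_of_map _ (Δ.δ c) (fun w => Δ.exists_δ c w) fun _ _ => b_orb S

variable (cs) in
/-- the shorter of `w`, `s_j w` -/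
noncomputable def sh (j : I) (w : W) : {w : W // ℓ w < ℓ (cs.simple j * w)} :=
  open Classical in
  if h : ℓ w < ℓ (cs.simple j * w) then ⟨w, h⟩ else ⟨cs.simple j * w, by
    rw [cs.simple_mul_simple_cancel_left]
    rcases cs.length_simple_mul w j with h3 | h3 <;> omega⟩

theorem sh_val (j : I) (w : W) : (sh cs j w : W) = w ∨ (sh cs j w : W) = cs.simple j * w := by
  unfold sh
  split_ifs
  · exact Or.inl rfl
  · exact Or.inr rfl

theorem sh_of (j : I) {w : W} (h : ℓ w < ℓ (cs.simple j * w)) : sh cs j w = ⟨w, h⟩ := by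
  unfold sh
  rw [dif_pos h]

theorem sh_mul (j : I) (w : W) : sh cs j (cs.simple j * w) = sh cs j w := by
  unfold sh
  by_cases h : ℓ w < ℓ (cs.simple j * w)
  · rw [dif_pos h, dif_neg (by rw [cs.simple_mul_simple_cancel_left]; omega)]
    exact Subtype.ext (cs.simple_mul_simple_cancel_left j)
  · have h' : ℓ (cs.simple j * w) < ℓ (cs.simple j * (cs.simple j * w)) := by
      rw [cs.simple_mul_simple_cancel_left]
      rcases cs.length_simple_mul w j with h3 | h3 <;> omega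
    rw [dif_neg h, dif_pos h']

theorem sh_eq_iff (j : I) (v w : W) : sh cs j v = sh cs j w ↔ v = w ∨ v = cs.simple j * w := by
  constructor
  · intro h
    have h1 : (sh cs j v : W) = sh cs j w := congrArg Subtype.val h
    rcases sh_val (cs := cs) j v with h2 | h2 <;> rcases sh_val (cs := cs) j w with h3 | h3 <;> rw [h2, h3] at h1
    · exact Or.inl h1
    · exact Or.inr h1
    · right
      rw [← h1, cs.simple_mul_simple_cancel_left]
    · exact Or.inl (mul_left_cancel h1)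
  · rintro (rfl | rfl)
    · rfl
    · rw [sh_mul]

theorem nOrb_P (ht : ∀ x y : C, ∃ g : G, g • x = y) (c : C) (j : I) [F : OppRes.Cox cs] :
    nOrb (stabRes Δ S.iso c {j}) C = Nat.card {w : W // ℓ w < ℓ (cs.simple j * w)} := by
  refine nOrb_of_map _ (fun y => sh cs j (Δ.δ c y)) ?_ fun x y => ?_
  · rintro ⟨w, hw⟩
    obtain ⟨y, hy⟩ := Δ.exists_δ c w
    exact ⟨y, by beta_reduce; rw [hy, sh_of j hw]⟩
  · rw [sh_eq_iff]
    constructor
    · rintro (h | h)
      · obtain ⟨g, hg, e⟩ := (b_orb S).1 h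
        exact ⟨g, B_le_P S c j hg, e⟩
      · -- a chamber of the panel at the distance `δ c x` of `y`
        obtain ⟨z, h1, h2⟩ := exists_near (Δ := Δ) c y j
        rw [← h] at h2
        obtain ⟨g, rfl⟩ := ht c z
        rw [← S.iso g c x] at h2
        obtain ⟨u, hu, e⟩ := S.exists_move h2.symm
        refine ⟨u * g, ?_, by rw [mul_smul, e]⟩
        rw [mem_P S, mul_smul, S.fix _ u hu]
        exact Or.inr h1
    · rintro ⟨g, hg, rfl⟩
      rw [mem_P S] at hg
      have h1 : Δ.δ (g • c) (g • x) = Δ.δ c x := S.iso g c x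
      rcases hg with h2 | h2
      · left
        rw [h2] at h1
        exact h1.symm
      · obtain ⟨t, ht, h3⟩ := Δ.exists_mul_of_mem_left (J := {j}) (g • x) (x := c) (y := g • c) (by
          rw [h2]; exact simple_mem_WJ cs rfl)
        rw [h1] at h3
        rcases mem_WJ_singleton.1 ht with rfl | rfl
        · left
          rw [h3, one_mul]
        · right
          rw [h3, cs.simple_mul_simple_cancel_left]

theorem Vj_normal (c : C) (j : I) : (Vj S c j).Normal := by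
  refine ⟨fun v hv u => ?_⟩
  obtain ⟨z, hz⟩ := Δ.exists_δ c (cs.simple j)
  refine mem_Vj S hz ?_
  have h1 : ((u⁻¹ : S.U c) : G) • z ∈ Δ.Pan j c := by
    right
    have h2 := S.iso ((u⁻¹ : S.U c) : G) c z
    rw [S.fix c _ (u⁻¹).2] at h2
    rw [h2, hz]
  rw [Subgroup.coe_mul, Subgroup.coe_mul, mul_smul, mul_smul, Vj_fix S hv h1, ← mul_smul, Subgroup.coe_inv,
    mul_inv_cancel, one_smul]

section Factor

variable [F : OppRes.Cox cs] [Finite G] [Finite C] [Fact p.Prime] (hth : Δ.Thick)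
  (ht : ∀ x y : C, ∃ g : G, g • x = y)

include hth ht

/-- `U = V_j stab(y)` if `c` is the projection of `y` to the `j`-panel. -/
theorem exists_VS {c y : C} {j : I} (h : ℓ (Δ.δ c y) < ℓ (cs.simple j * Δ.δ c y)) (u : S.U c) :
    ∃ v ∈ Vj S c j, ∃ l ∈ stabilizer (S.U c) y, u = v * l := by
  have hm : IsMinL cs ({j} : Set I) (Δ.δ c y) := by
    rw [isMinL_iff]
    rintro i rfl
    exact h
  obtain ⟨v, hv, l, hl, hl', e⟩ := exists_factor_min (S := S) hth ht hm u.2
  have hvU : v ∈ S.U c := hv c (Δ.self_mem_Res _ _)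
  exact ⟨⟨v, hvU⟩, Subgroup.mem_subgroupOf.2 hv, ⟨l, hl⟩, S.fix y l hl', Subtype.ext e⟩

theorem stab_le_iff {c y : C} {j : I} {K : Subgroup (S.U c)} (hK : K ≠ ⊤) (hV : Vj S c j ≤ K) :
    stabilizer (S.U c) y ≤ K ↔ ℓ (cs.simple j * Δ.δ c y) < ℓ (Δ.δ c y) := by
  constructor
  · intro h
    by_contra hcon
    have h1 : ℓ (Δ.δ c y) < ℓ (cs.simple j * Δ.δ c y) := by
      rcases cs.length_simple_mul (Δ.δ c y) j with h3 | h3 <;> omega
    apply hK
    rw [eq_top_iff]
    intro u _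
    obtain ⟨v, hv, l, hl, rfl⟩ := exists_VS S hth ht h1 u
    exact mul_mem (hV hv) (h hl)
  · intro h
    exact (stab_le_Vj S h).trans hV

theorem mult_j {c : C} {j : I} {K : Subgroup (S.U c)} [K.Normal] (hK : K ≠ ⊤) (hV : Vj S c j ≤ K) :
    mult C K = Nat.card {w : W // ℓ (cs.simple j * w) < ℓ w} :=
  mult_of_map _ _ (Δ.δ c) (fun w => Δ.exists_δ c w) (fun _ _ => u_orb S) _ fun _ => stab_le_iff S hth ht hK hV

/-- `U = V_i V_j` -/
theorem eq_top_of_both {c : C} {i j : I} (hij : cs.simple i ≠ cs.simple j) {K : Subgroup (S.U c)} (hi : Vj S c i ≤ K)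
    (hj : Vj S c j ≤ K) : K = ⊤ := by
  rw [eq_top_iff]
  intro u _
  obtain ⟨z, hz⟩ := Δ.exists_δ c (cs.simple j)
  have h1 : ℓ (Δ.δ c z) < ℓ (cs.simple i * Δ.δ c z) := by
    rw [hz, cs.length_simple]
    rcases cs.length_simple_mul (cs.simple j) i with h3 | h3
    · rw [h3, cs.length_simple]
      omega
    · rw [cs.length_simple] at h3
      have h4 : cs.simple i * cs.simple j = 1 := cs.length_eq_zero_iff.1 (by omega)
      have h5 : cs.simple i = (cs.simple j)⁻¹ := mul_eq_one_iff_eq_inv.1 h4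
      rw [cs.inv_simple] at h5
      exact absurd h5 hij
  obtain ⟨v, hv, l, hl, rfl⟩ := exists_VS S hth ht h1 u
  exact mul_mem (hi hv) (hj (mem_Vj S hz hl))

/-- the generic characters -/
theorem stab_gen {c y : C} {i j : I} (hij : cs.simple i ≠ cs.simple j) (hI : ∀ k, k = i ∨ k = j)
    {K : Subgroup (S.U c)} (hK : Vj S c i ⊓ Vj S c j ≤ K) (hi : ¬ Vj S c i ≤ K) (hj : ¬ Vj S c j ≤ K) :
    stabilizer (S.U c) y ≤ K ↔ Δ.δ c y = w0 cs := by
  constructor
  · intro h
    have key : ∀ i j : I, (∀ k, k = i ∨ k = j) → Vj S c i ⊓ Vj S c j ≤ K → ¬ Vj S c i ≤ K →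
        ℓ (cs.simple j * Δ.δ c y) < ℓ (Δ.δ c y) ∨ Δ.δ c y = 1 := by
      intro i j hI hK hi
      by_contra hcon
      push Not at hcon
      obtain ⟨h1, h2⟩ := hcon
      have h1' : ℓ (Δ.δ c y) < ℓ (cs.simple j * Δ.δ c y) := by
        rcases cs.length_simple_mul (Δ.δ c y) j with h3 | h3 <;> omega
      -- `i` is a descent
      have h3 : ℓ (cs.simple i * Δ.δ c y) < ℓ (Δ.δ c y) := by
        obtain ⟨k, hk⟩ := cs.exists_leftDescent_of_ne_one h2
        rcases hI k with rfl | rfl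
        · exact hk
        · exact absurd hk (not_lt.2 h1'.le)
      apply hi
      intro u hu
      obtain ⟨v, hv, l, hl, rfl⟩ := exists_VS S hth ht h1' u
      have hl' : l ∈ Vj S c i := stab_le_Vj S h3 hl
      have hv' : v ∈ Vj S c i := by
        have := mul_mem hu (inv_mem hl')
        rwa [mul_inv_cancel_right] at this
      exact mul_mem (hK ⟨hv', hv⟩) (h hl)
    have h1 : Δ.δ c y ≠ 1 := by
      intro h1
      apply hi
      intro u _
      apply h
      rw [mem_stabilizer_iff, ← Δ.eq_of_δ_eq_one h1]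
      exact S.fix c u u.2
    have h2 : ∀ k, ℓ (cs.simple k * Δ.δ c y) < ℓ (Δ.δ c y) := by
      intro k
      rcases hI k with rfl | rfl
      · exact (key j k (fun k => (hI k).symm) (by rw [inf_comm]; exact hK) hj).resolve_right h1
      · exact (key i k hI hK hi).resolve_right h1
    have h3 : Δ.δ c y * w0 cs = 1 := by
      by_contra hne
      obtain ⟨k, hk⟩ := cs.exists_leftDescent_of_ne_one hne
      have h4 : ℓ (cs.simple k * (Δ.δ c y * w0 cs)) < ℓ (Δ.δ c y * w0 cs) := hk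
      rw [← mul_assoc] at h4
      have h5 := F.len_mul_w0 (cs.simple k * Δ.δ c y)
      have h6 := F.len_mul_w0 (Δ.δ c y)
      have := h2 k
      omega
    rw [mul_eq_one_iff_eq_inv.1 h3, F.w0_inv]
  · intro h u hu
    have h1 : u = 1 := Subtype.ext (S.free c y h u u.2 hu)
    rw [h1]
    exact one_mem _

theorem mult_gen {c : C} {i j : I} (hij : cs.simple i ≠ cs.simple j) (hI : ∀ k, k = i ∨ k = j)
    {K : Subgroup (S.U c)} [K.Normal] (hK : Vj S c i ⊓ Vj S c j ≤ K) (hi : ¬ Vj S c i ≤ K) (hj : ¬ Vj S c j ≤ K) :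
    mult C K = 1 := by
  rw [mult_of_map _ _ (Δ.δ c) (fun w => Δ.exists_δ c w) (fun _ _ => u_orb S) (fun w => w = w0 cs) fun _ =>
    stab_gen S hth ht hij hI hK hi hj]
  rw [Nat.card_eq_one_iff_unique]
  exact ⟨⟨fun a b => Subtype.ext (a.2.trans b.2.symm)⟩, ⟨⟨_, rfl⟩⟩⟩

end Factor

end Bld

end Cfsg.Agent.H743.EP
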