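import Cfsg.Agent.H743.EP.Orb

/-!
# The inequality of a panel (helper743)

`b_le` : `ψ ≠ 1` a linear character of `U` trivial on `V_j`: `⟨θ, 1_B⟩ ≤ ⟨θ, 1_{P_j}⟩ + ⟨θ_U, ψ⟩`.
-/

set_option autoImplicit false
set_option linter.unusedSectionVars false

namespace Cfsg.Agent.H743.EP

open MulAction Cfsg Cfsg.Agent.Characters.Core Cfsg.Agent.H969.TT.Count Cfsg.Agent.H969.TT.TopAbs
  Cfsg.Agent.H969.TT.TopRGD Cfsg.Agent.Tits.Core Cfsg.Agent.Tits.Core.Bldg Cfsg.Agent.Tits.Exchange Cfsg.Agent.FixBN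
  Cfsg.Agent.Tits Cfsg.Agent.H330.ClassRes Cfsg.Agent.H114.StRegular
open scoped ComplexConjugate

variable {I : Type*} {M : CoxeterMatrix I} {W : Type*} [Group W] {cs : CoxeterSystem M W} {C : Type*}
  {Δ : Bldg cs C} {G : Type*} [Group G] [MulAction G C] {p : ℕ} (S : Sys Δ G p)

local prefix:100 "ℓ" => cs.length

variable [DecidableEq I] [Finite W] [F : OppRes.Cox cs]

section Orb

variable (c : C) (j : I)

/-- `B` in `P_j` -/
abbrev BP : Subgroup ↥(stabRes Δ S.iso c {j}) := (stabRes Δ S.iso c ∅).subgroupOf (stabRes Δ S.iso c {j})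

/-- `U` in `P_j` -/
abbrev UP : Subgroup ↥(stabRes Δ S.iso c {j}) := (S.U c).subgroupOf (stabRes Δ S.iso c {j})

variable {c j}

theorem mk_eq_one_iff {g : ↥(stabRes Δ S.iso c {j})} :
    (QuotientGroup.mk g : ↥(stabRes Δ S.iso c {j}) ⧸ BP S c j) = QuotientGroup.mk 1 ↔ (g : G) • c = c := by
  rw [eq_comm, QuotientGroup.eq, inv_one, one_mul, Subgroup.mem_subgroupOf, mem_B S]

theorem one_ne_simple : (1 : W) ≠ cs.simple j := by
  intro h
  have h2 := cs.length_simple j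
  rw [← h, cs.length_one] at h2
  exact absurd h2 (by norm_num)

theorem delta_of {g : ↥(stabRes Δ S.iso c {j})} (h : (g : G) • c ≠ c) : Δ.δ c ((g : G) • c) = cs.simple j := by
  rcases (mem_P S).1 g.2 with h1 | h1
  · exact absurd h1 h
  · exact h1

/-- the two orbits -/
theorem orb_iff {H : Subgroup ↥(stabRes Δ S.iso c {j})} (hH : UP S c j ≤ H) (hB : H ≤ BP S c j)
    (x y : ↥(stabRes Δ S.iso c {j}) ⧸ BP S c j) :
    (x = QuotientGroup.mk 1) = (y = QuotientGroup.mk 1) ↔ ∃ g ∈ H, g • x = y := by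
  obtain ⟨x, rfl⟩ := QuotientGroup.mk_surjective x
  obtain ⟨y, rfl⟩ := QuotientGroup.mk_surjective y
  rw [mk_eq_one_iff S, mk_eq_one_iff S]
  constructor
  · intro h
    by_cases hx : (x : G) • c = c
    · have hy : (y : G) • c = c := by rwa [h] at hx
      refine ⟨1, one_mem _, ?_⟩
      rw [one_smul, (mk_eq_one_iff S).2 hx, (mk_eq_one_iff S).2 hy]
    · have hy : (y : G) • c ≠ c := fun h' => hx (by rwa [h])
      have h1 : Δ.δ c ((x : G) • c) = Δ.δ c ((y : G) • c) := by rw [delta_of S hx, delta_of S hy]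
      obtain ⟨u, hu, e⟩ := S.exists_move h1
      have huP : u ∈ stabRes Δ S.iso c {j} := B_le_P S c j (U_le_B' S c hu)
      refine ⟨⟨u, huP⟩, hH (Subgroup.mem_subgroupOf.2 hu), ?_⟩
      change (QuotientGroup.mk (⟨u, huP⟩ * x) : ↥(stabRes Δ S.iso c {j}) ⧸ BP S c j) = QuotientGroup.mk y
      rw [QuotientGroup.eq, Subgroup.mem_subgroupOf, mem_B S]
      change (((u * (x : G))⁻¹ * (y : G)) : G) • c = c
      rw [mul_smul, ← e, ← mul_smul, ← mul_smul, mul_assoc, inv_mul_cancel, one_smul]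
  · rintro ⟨g, hg, e⟩
    have hgc : (g : G) • c = c := (mem_B S).1 (Subgroup.mem_subgroupOf.1 (hB hg))
    have e' : (QuotientGroup.mk (g * x) : ↥(stabRes Δ S.iso c {j}) ⧸ BP S c j) = QuotientGroup.mk y := e
    rw [QuotientGroup.eq, Subgroup.mem_subgroupOf, mem_B S] at e'
    have h1 : (y : G) • c = (g : G) • (x : G) • c := by
      have h2 : (((g * x)⁻¹ * y : ↥(stabRes Δ S.iso c {j})) : G) = ((g : G) * x)⁻¹ * y := rfl
      rw [h2, mul_smul, inv_smul_eq_iff, mul_smul] at e'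
      exact e'
    rw [h1, eq_iff_iff]
    constructor
    · intro h
      rw [h, hgc]
    · intro h
      have h2 : (x : G) • c = (g : G)⁻¹ • c := by rw [eq_inv_smul_iff, h]
      rw [h2, inv_smul_eq_iff, hgc]

variable (ht : ∀ x y : C, ∃ g : G, g • x = y)

include ht

theorem orb_surj : Function.Surjective fun x : ↥(stabRes Δ S.iso c {j}) ⧸ BP S c j => (x = QuotientGroup.mk 1) := by
  intro b
  by_cases hb : b
  · exact ⟨QuotientGroup.mk 1, by simp [hb]⟩
  · obtain ⟨z, hz⟩ := Δ.exists_δ c (cs.simple j)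
    obtain ⟨g, rfl⟩ := ht c z
    have hg : g ∈ stabRes Δ S.iso c {j} := (mem_P S).2 (Or.inr hz)
    refine ⟨QuotientGroup.mk ⟨g, hg⟩, ?_⟩
    beta_reduce
    rw [mk_eq_one_iff S, eq_iff_iff]
    refine ⟨fun h => ?_, fun h => absurd h hb⟩
    change g • c = c at h
    rw [h, Δ.δ_self] at hz
    exact absurd hz one_ne_simple

theorem nOrb_BP : nOrb (BP S c j) (↥(stabRes Δ S.iso c {j}) ⧸ BP S c j) = 2 := by
  have h1 : UP S c j ≤ BP S c j := fun u hu => Subgroup.mem_subgroupOf.2 (U_le_B' S c (Subgroup.mem_subgroupOf.1 hu))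
  rw [nOrb_of_map (BP S c j) _ (orb_surj S ht) (orb_iff S h1 le_rfl), Nat.card_eq_fintype_card, Fintype.card_prop]

theorem mult_BP {K : Subgroup ↥(UP S c j)} [K.Normal] (hK : K ≠ ⊤)
    (hV : ∀ u : ↥(UP S c j), (⟨((u : ↥(stabRes Δ S.iso c {j})) : G), u.2⟩ : S.U c) ∈ Vj S c j → u ∈ K) :
    mult (↥(stabRes Δ S.iso c {j}) ⧸ BP S c j) K = 1 := by
  have h1 : UP S c j ≤ BP S c j := fun u hu => Subgroup.mem_subgroupOf.2 (U_le_B' S c (Subgroup.mem_subgroupOf.1 hu))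
  refine (mult_of_map (UP S c j) K _ (orb_surj S ht) (orb_iff S le_rfl h1) (fun b => ¬ b) ?_).trans ?_
  swap
  · rw [Nat.card_eq_one_iff_unique]
    exact ⟨⟨fun a b => Subtype.ext (eq_iff_iff.2 ⟨fun h => absurd h a.2, fun h => absurd h b.2⟩)⟩, ⟨⟨False, not_false⟩⟩⟩
  · intro x
    constructor
    · intro h hx
      apply hK
      rw [eq_top_iff]
      intro u _
      apply h
      rw [mem_stabilizer_iff, hx]
      change (QuotientGroup.mk ((u : ↥(stabRes Δ S.iso c {j})) * 1) : ↥(stabRes Δ S.iso c {j}) ⧸ BP S c j) = QuotientGroup.mk 1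
      rw [mul_one, mk_eq_one_iff S]
      exact S.fix c _ u.2
    · intro hx u hu
      obtain ⟨g, rfl⟩ := QuotientGroup.mk_surjective x
      rw [mk_eq_one_iff S] at hx
      apply hV
      refine mem_Vj S (delta_of S hx) ?_
      rw [mem_stabilizer_iff] at hu
      have e' : (QuotientGroup.mk ((u : ↥(stabRes Δ S.iso c {j})) * g) : ↥(stabRes Δ S.iso c {j}) ⧸ BP S c j) =
        QuotientGroup.mk g := hu
      rw [eq_comm, QuotientGroup.eq, Subgroup.mem_subgroupOf, mem_B S] at e'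
      change (((g : G)⁻¹ * ((u : ↥(stabRes Δ S.iso c {j})) * g : G)) : G) • c = c at e'
      rw [mul_smul, inv_smul_eq_iff, mul_smul] at e'
      exact e'

end Orb

theorem b_le [Finite G] (ht : ∀ x y : C, ∃ g : G, g • x = y) {c : C} {j : I} [Fintype ↥(S.U c)]
    [Fintype ↥(stabRes Δ S.iso c ∅)] [Fintype ↥(stabRes Δ S.iso c {j})] (ψ : S.U c →* ℂˣ) (hψ : ψ ≠ 1)
    (hV : Vj S c j ≤ ψ.ker) {θ : G → ℂ} (hθ : IsCharacter G θ) {a b d : ℕ}
    (ha : ∑ y : ↥(stabRes Δ S.iso c {j}), θ y = (Nat.card ↥(stabRes Δ S.iso c {j}) : ℂ) * a)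
    (hb : ∑ y : ↥(stabRes Δ S.iso c ∅), θ y = (Nat.card ↥(stabRes Δ S.iso c ∅) : ℂ) * b)
    (hc : tw (S.U c) ψ θ = (Nat.card ↥(S.U c) : ℂ) * d) : b ≤ a + d := by
  have hU : S.U c ≤ stabRes Δ S.iso c {j} := (U_le_B' S c).trans (B_le_P S c j)
  have : Fintype ↥(BP S c j) := Fintype.ofFinite _
  have : Fintype ↥(UP S c j) := Fintype.ofFinite _
  set e := Subgroup.subgroupOfEquivOfLe hU with he
  set e' := Subgroup.subgroupOfEquivOfLe (B_le_P S c j) with he'
  have hev : ∀ u : ↥(UP S c j), e u = (⟨((u : ↥(stabRes Δ S.iso c {j})) : G), u.2⟩ : S.U c) := fun u => rfl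
  set ψ' : ↥(UP S c j) →* ℂˣ := ψ.comp e.toMonoidHom with hψ'
  have hval : ∀ u, ψ' u = ψ (e u) := fun u => rfl
  have hne : ψ' ≠ 1 := by
    intro h
    apply hψ
    ext u
    have h1 := DFunLike.congr_fun h (e.symm u)
    rw [hval, e.apply_symm_apply] at h1
    rw [h1, MonoidHom.one_apply, MonoidHom.one_apply]
  have hker : ψ'.ker ≠ ⊤ := by
    intro h
    apply hne
    ext u
    have h1 : u ∈ ψ'.ker := by rw [h]; exact Subgroup.mem_top u
    rw [MonoidHom.mem_ker.1 h1, MonoidHom.one_apply]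
  have hm := mult_BP S ht (c := c) (j := j) (K := ψ'.ker) hker fun u hu => by
    rw [MonoidHom.mem_ker, hval, hev]
    exact hV hu
  refine panel_le (BP S c j) (UP S c j) (nOrb_BP S ht) ψ' hne hm
    (θ := fun y : ↥(stabRes Δ S.iso c {j}) => θ y) (isCharacter_comp (stabRes Δ S.iso c {j}).subtype hθ) ha
    (b := b) (c := d) ?_ ?_
  · rw [Nat.card_congr e'.toEquiv, ← hb]
    exact Fintype.sum_equiv e'.toEquiv _ _ fun y => rfl
  · rw [Nat.card_congr e.toEquiv, ← hc]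
    unfold tw
    exact Fintype.sum_equiv e.toEquiv _ _ fun u => rfl

end Cfsg.Agent.H743.EP
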