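import Cfsg.Agent.H969.TT.TopRGD
import Cfsg.Agent.PermutationGroups.ExceptionalDegree
import Cfsg.Agent.Characters.Linear

/-!
# Parity of a character degree and the linear characters of a Sylow `2`-subgroup (helper743)

* `tw U ψ F` : `∑ u, ψ(u⁻¹) F(u)`;
* `parity_two` : `U` a `2`-group: `χ(1) ≡ ∑ ψ, ⟨χ_U, ψ⟩ (mod 2)`;
* `le_of_irr` : `⟨θ, St⟩ ≤ ⟨θ_U, ψ⟩` if `⟨St_U, ψ⟩ = 1`;
* `panel_le` : `B` with two orbits on `Y ⧸ B`, `U ≤ B` ...: `⟨θ, 1_B^Y⟩ ≤ ⟨θ, 1⟩ + ⟨θ_U, ψ⟩`;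
* `odd_card` : the number of the nontrivial `ψ` with `V ≤ ker ψ` is odd.
-/

set_option autoImplicit false
set_option linter.unusedSectionVars false

namespace Cfsg.Agent.H743.EP

open MulAction Cfsg Cfsg.Agent.Characters.Core Cfsg.Agent.H969.TT.Count Cfsg.Agent.H969.TT.TopAbs
  Cfsg.Agent.H969.TT.TopRGD
open scoped ComplexConjugate

section

variable {Y : Type*} [Group Y] [Finite Y]

/-- `∑ u, ψ(u⁻¹) F(u)` -/
noncomputable def tw (U : Subgroup Y) [Fintype U] (ψ : U →* ℂˣ) (F : Y → ℂ) : ℂ :=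
  ∑ u : U, ((ψ u⁻¹ : ℂˣ) : ℂ) * F u

theorem tw_eq (U : Subgroup Y) [Fintype U] (ψ : U →* ℂˣ) (F : Y → ℂ) :
    tw U ψ F = (Nat.card U : ℂ) * classInner (fun u : U => F u) (fun u : U => ((ψ u : ℂˣ) : ℂ)) := by
  have h2 : IsCharacter U (fun u : U => ((ψ u : ℂˣ) : ℂ)) :=
    isIrr_isCharacter (Cfsg.Agent.Characters.Linear.isIrrCharacter_hom ψ)
  rw [classInner_def, ← mul_assoc, mul_inv_cancel₀ card_ne_zero_complex, one_mul, tw]
  refine Finset.sum_congr rfl fun u _ => ?_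
  rw [← isCharacter_apply_inv h2 u, mul_comm]

theorem exists_tw (U : Subgroup Y) [Fintype U] (ψ : U →* ℂˣ) {F : Y → ℂ} (hF : IsCharacter Y F) :
    ∃ c : ℕ, tw U ψ F = (Nat.card U : ℂ) * c := by
  obtain ⟨c, hc⟩ := classInner_isNat (isCharacter_comp U.subtype hF)
    (isIrr_isCharacter (Cfsg.Agent.Characters.Linear.isIrrCharacter_hom ψ))
  refine ⟨c, ?_⟩
  rw [tw_eq, ← hc]
  rfl

theorem tw_sum (U : Subgroup Y) [Fintype U] (ψ : U →* ℂˣ) {ι : Type*} [Fintype ι] (m : ι → ℕ) (f : ι → Y → ℂ)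
    (c : ι → ℕ) (hc : ∀ i, tw U ψ (f i) = (Nat.card U : ℂ) * c i) :
    tw U ψ (∑ i, m i • f i) = (Nat.card U : ℂ) * ((∑ i, m i * c i : ℕ) : ℂ) := by
  have h1 : ∀ u : U, ((ψ u⁻¹ : ℂˣ) : ℂ) * (∑ i, m i • f i) u =
      ∑ i, (m i : ℂ) * (((ψ u⁻¹ : ℂˣ) : ℂ) * f i u) := by
    intro u
    rw [Finset.sum_apply, Finset.mul_sum]
    refine Finset.sum_congr rfl fun χ _ => ?_
    rw [Pi.smul_apply, nsmul_eq_mul]
    ring
  unfold tw
  rw [Finset.sum_congr rfl fun u _ => h1 u, Finset.sum_comm]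
  push_cast
  rw [Finset.mul_sum]
  refine Finset.sum_congr rfl fun χ _ => ?_
  rw [← Finset.mul_sum]
  have := hc χ
  unfold tw at this
  rw [this]
  ring

/-- **Parity.** -/
theorem parity_two (U : Subgroup Y) [Fintype U] (hU : IsPGroup 2 U) [Fintype (U →* ℂˣ)] {χ : Y → ℂ}
    (hχ : IsCharacter Y χ) (c : (U →* ℂˣ) → ℕ) (hc : ∀ ψ, tw U ψ χ = (Nat.card U : ℂ) * c ψ) {n : ℕ}
    (hn : χ 1 = n) : ∃ k : ℕ, n = ∑ ψ, c ψ + 2 * k := by
  classical
  have : Fintype (IrrCharacter U) := @Fintype.ofFinite _ finite_irr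
  have hU0 : (Nat.card U : ℂ) ≠ 0 := card_ne_zero_complex
  have hθ : IsCharacter U (fun u : U => χ u) := isCharacter_comp U.subtype hχ
  obtain ⟨m, hm⟩ := exists_nat_comb hθ
  -- the degrees
  have hd : ∀ φ : IrrCharacter U, ∃ d : ℕ, (φ : U → ℂ) 1 = d := fun φ => isCharacter_apply_one (isIrr_isCharacter φ.2)
  choose d hd using hd
  have hd2 : ∀ φ : IrrCharacter U, d φ ≠ 1 → 2 ∣ d φ := by
    intro φ hne
    have h1 := PermutationGroups.ExceptionalDegree.irr_degree_dvd φ.2 (hd φ)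
    obtain ⟨k, hk⟩ := IsPGroup.iff_card.1 hU
    rw [hk] at h1
    obtain ⟨j, -, hj⟩ := (Nat.dvd_prime_pow Nat.prime_two).1 h1
    rcases Nat.eq_zero_or_pos j with rfl | h2
    · exact absurd (by rw [hj, pow_zero]) hne
    · rw [hj]
      exact dvd_pow_self 2 (by omega)
  have hn' : n = ∑ φ, m φ * d φ := by
    have h1 : χ ((1 : U) : Y) = ∑ φ, (m φ : ℂ) * (d φ : ℂ) := by
      have := congrFun hm 1
      rw [this, Finset.sum_apply]
      refine Finset.sum_congr rfl fun φ _ => ?_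
      rw [Pi.smul_apply, nsmul_eq_mul, hd]
    rw [Subgroup.coe_one, hn] at h1
    exact_mod_cast h1
  -- the linear ones
  have hc' : ∀ ψ : U →* ℂˣ, c ψ = m (Cfsg.Agent.Characters.Linear.linearEquiv U ψ).1 := by
    intro ψ
    have h1 := hc ψ
    rw [tw_eq] at h1
    have h2 := mul_left_cancel₀ hU0 h1
    have h3 := classInner_sum_nsmul_irr m (Cfsg.Agent.Characters.Linear.linearEquiv U ψ).1
    rw [← hm] at h3
    have h4 : (((Cfsg.Agent.Characters.Linear.linearEquiv U ψ).1 : IrrCharacter U) : U → ℂ) =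
        fun u : U => ((ψ u : ℂˣ) : ℂ) := rfl
    rw [h4, h2] at h3
    exact_mod_cast h3
  have hsum : ∑ ψ, c ψ = ∑ φ ∈ Finset.univ.filter (fun φ : IrrCharacter U => (φ : U → ℂ) 1 = 1), m φ * d φ := by
    rw [Finset.sum_congr rfl fun ψ _ => hc' ψ,
      Fintype.sum_equiv (Cfsg.Agent.Characters.Linear.linearEquiv U) _ (fun φ => m φ.1) fun ψ => rfl]
    rw [← Finset.sum_subtype (s := Finset.univ.filter (fun φ : IrrCharacter U => (φ : U → ℂ) 1 = 1))
      (p := fun φ : IrrCharacter U => (φ : U → ℂ) 1 = 1) (fun φ => by simp) (f := m)]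
    refine Finset.sum_congr rfl fun φ hφ => ?_
    have h1 := (Finset.mem_filter.1 hφ).2
    rw [hd] at h1
    have h2 : d φ = 1 := by exact_mod_cast h1
    rw [h2, mul_one]
  have h5 : 2 ∣ ∑ φ ∈ Finset.univ.filter (fun φ : IrrCharacter U => ¬ (φ : U → ℂ) 1 = 1), m φ * d φ := by
    refine Finset.dvd_sum fun φ hφ => ?_
    refine Dvd.dvd.mul_left (hd2 φ fun h => (Finset.mem_filter.1 hφ).2 ?_) _
    rw [hd, h, Nat.cast_one]
  obtain ⟨k, hk⟩ := h5
  refine ⟨k, ?_⟩
  rw [hn', hsum, ← hk, Finset.sum_filter_add_sum_filter_not]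

/-- `⟨θ, St⟩ ≤ ⟨θ_U, ψ⟩` -/
theorem le_of_irr [Fintype Y] (U : Subgroup Y) [Fintype U] (ψ : U →* ℂˣ) {St : Y → ℂ} (hSt : IsIrrCharacter Y St)
    (h1 : tw U ψ St = Nat.card U) {θ : Y → ℂ} (hθ : IsCharacter Y θ) {c s : ℕ}
    (hc : tw U ψ θ = (Nat.card U : ℂ) * c) (hs : classInner θ St = s) : s ≤ c := by
  classical
  have : Fintype (IrrCharacter Y) := @Fintype.ofFinite _ finite_irr
  have hU0 : (Nat.card U : ℂ) ≠ 0 := card_ne_zero_complex
  obtain ⟨m, rfl⟩ := exists_nat_comb hθ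
  have hex : ∀ χ : IrrCharacter Y, ∃ c : ℕ, tw U ψ (χ : Y → ℂ) = (Nat.card U : ℂ) * c := fun χ =>
    exists_tw U ψ (isIrr_isCharacter χ.2)
  choose c' hc' using hex
  rw [tw_sum U ψ m _ c' hc'] at hc
  have h2 : ∑ χ, m χ * c' χ = c := by exact_mod_cast mul_left_cancel₀ hU0 hc
  have h3 : m ⟨St, hSt⟩ = s := by
    have := classInner_sum_nsmul_irr m ⟨St, hSt⟩
    have h4 : ((⟨St, hSt⟩ : IrrCharacter Y) : Y → ℂ) = St := rfl
    rw [h4, hs] at this
    exact_mod_cast this.symm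
  have h4 : c' ⟨St, hSt⟩ = 1 := by
    have := hc' ⟨St, hSt⟩
    have h5 : ((⟨St, hSt⟩ : IrrCharacter Y) : Y → ℂ) = St := rfl
    rw [h5, h1] at this
    have h6 : (Nat.card U : ℂ) * ((1 : ℕ) : ℂ) = (Nat.card U : ℂ) * (c' ⟨St, hSt⟩ : ℂ) := by rw [← this]; simp
    exact_mod_cast (mul_left_cancel₀ hU0 h6).symm
  rw [← h2, ← h3]
  calc m ⟨St, hSt⟩ = m ⟨St, hSt⟩ * c' ⟨St, hSt⟩ := by rw [h4, mul_one]
    _ ≤ _ := Finset.single_le_sum (f := fun χ => m χ * c' χ) (fun _ _ => Nat.zero_le _) (Finset.mem_univ _)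

theorem fpc_char (B : Subgroup Y) : IsCharacter Y (fixedPointCharacter B) := by
  have : Fintype Y := Fintype.ofFinite _
  have : Fintype (Y ⧸ B) := Fintype.ofFinite _
  exact isCharacter_perm (Y := Y) (Ω := Y ⧸ B)

theorem classInner_fpc_one [Fintype Y] (B : Subgroup Y) : classInner (fixedPointCharacter B) 1 = 1 := by
  have : Fintype (Y ⧸ B) := Fintype.ofFinite _
  have h1 := classInner_fpc (⊤ : Subgroup Y) (Ω := Y ⧸ B)
  have h2 : fixedPointCharacter (⊤ : Subgroup Y) = 1 := by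
    funext y
    have h3 : Subsingleton (Y ⧸ (⊤ : Subgroup Y)) := QuotientGroup.subsingleton_quotient_top
    rw [fixedPointCharacter, Pi.one_apply]
    have h4 : Nat.card (MulAction.fixedBy (Y ⧸ (⊤ : Subgroup Y)) y) = 1 := by
      rw [Nat.card_eq_one_iff_unique]
      exact ⟨⟨fun a b => Subtype.ext (Subsingleton.elim _ _)⟩, ⟨⟨QuotientGroup.mk 1, Subsingleton.elim _ _⟩⟩⟩
    rw [h4, Nat.cast_one]
  rw [h2] at h1
  change classInner (fun y : Y => (Nat.card (fixedBy (Y ⧸ B) y) : ℂ)) 1 = 1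
  rw [h1]
  have h5 : nOrb (⊤ : Subgroup Y) (Y ⧸ B) = 1 := by
    unfold nOrb
    rw [Nat.card_eq_one_iff_unique]
    refine ⟨⟨fun a b => ?_⟩, ⟨Quotient.mk'' (QuotientGroup.mk 1)⟩⟩
    obtain ⟨x, rfl⟩ := Quotient.mk''_surjective a
    obtain ⟨y, rfl⟩ := Quotient.mk''_surjective b
    obtain ⟨g, hg⟩ := MulAction.exists_smul_eq Y y x
    exact mk_eq.2 ⟨⟨g, trivial⟩, hg⟩
  rw [h5, Nat.cast_one]

/-- A group with two orbits of `B` on `Y ⧸ B`. -/
theorem isIrr_two [Fintype Y] (B : Subgroup Y) (h2 : nOrb B (Y ⧸ B) = 2) :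
    IsIrrCharacter Y (fixedPointCharacter B - 1) := by
  have : Fintype (Y ⧸ B) := Fintype.ofFinite _
  have h1 : classInner (fixedPointCharacter B) (fixedPointCharacter B) = 2 := by
    have := classInner_fpc B (Ω := Y ⧸ B)
    rw [h2] at this
    exact_mod_cast this
  have h3 := classInner_fpc_one B
  have h4 : classInner (1 : Y → ℂ) (fixedPointCharacter B) = 1 := by
    rw [← classInner_conj_symm, h3, map_one]
  have h5 : classInner (1 : Y → ℂ) 1 = 1 := classInner_irr_self isIrr_one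
  have hn : classInner (fixedPointCharacter B - 1) (fixedPointCharacter B - 1) = 1 := by
    rw [classInner_sub_left, classInner_sub_right, classInner_sub_right, h1, h3, h4, h5]
    norm_num
  have hg : IsGeneralizedCharacter Y (fixedPointCharacter B - 1) := by
    rw [isGeneralizedCharacter_def]
    exact ⟨_, _, fpc_char B, isCharacter_one, rfl⟩
  rcases isIrr_of_generalized hg hn with h | h
  · exact h
  · exfalso
    obtain ⟨n, hn0, hn1⟩ := isIrr_apply_one h
    have h6 : fixedPointCharacter B 1 = (Nat.card (Y ⧸ B) : ℂ) := by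
      rw [fixedPointCharacter]
      congr 1
      exact Nat.card_congr (Equiv.subtypeUnivEquiv fun x => by simp)
    rw [Pi.neg_apply, Pi.sub_apply, Pi.one_apply, h6] at hn1
    have h7 : 0 < Nat.card (Y ⧸ B) := Nat.card_pos
    have h8 : ((Nat.card (Y ⧸ B) : ℕ) : ℂ) + ((n : ℕ) : ℂ) = ((1 : ℕ) : ℂ) := by
      rw [← hn1, Nat.cast_one]; ring
    have h9 : Nat.card (Y ⧸ B) + n = 1 := by exact_mod_cast h8
    omega

theorem classInner_fpc_eq [Fintype Y] (B : Subgroup Y) [Fintype B] {θ : Y → ℂ} (hθ : IsClassFunction Y θ) {b : ℕ}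
    (hb : ∑ y : B, θ y = (Nat.card B : ℂ) * b) : classInner θ (fixedPointCharacter B) = b := by
  have h1 := frob B hθ
  rw [classInner_def]
  have h2 : ∀ y : Y, θ y * conj (fixedPointCharacter B y) = θ y * (Nat.card (fixedBy (Y ⧸ B) y) : ℂ) := by
    intro y
    rw [fixedPointCharacter, Complex.conj_natCast]
  rw [Finset.sum_congr rfl fun y _ => h2 y, h1, hb, ← mul_assoc ((B.index : ℂ)), ← Nat.cast_mul,
    Subgroup.index_mul_card, ← mul_assoc, inv_mul_cancel₀ card_ne_zero_complex, one_mul]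

/-- **The inequality in the parabolic subgroup.** -/
theorem panel_le [Fintype Y] (B U : Subgroup Y) [Fintype B] [Fintype U] (h2 : nOrb B (Y ⧸ B) = 2)
    (ψ : U →* ℂˣ) (hψ : ψ ≠ 1) (hm : mult (Y ⧸ B) ψ.ker = 1) {θ : Y → ℂ} (hθ : IsCharacter Y θ) {a b c : ℕ}
    (ha : ∑ y : Y, θ y = (Nat.card Y : ℂ) * a) (hb : ∑ y : B, θ y = (Nat.card B : ℂ) * b)
    (hc : tw U ψ θ = (Nat.card U : ℂ) * c) : b ≤ a + c := by
  have : Fintype (Y ⧸ B) := Fintype.ofFinite _
  have hirr := isIrr_two B h2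
  have hcl := isCharacter_isClassFunction hθ
  have h1 : classInner θ (fixedPointCharacter B) = b := classInner_fpc_eq B hcl hb
  have h3 : classInner θ 1 = a := by
    rw [classInner_def]
    simp only [Pi.one_apply, map_one, mul_one]
    rw [ha, ← mul_assoc, inv_mul_cancel₀ card_ne_zero_complex, one_mul]
  obtain ⟨s, hs⟩ := classInner_isNat hθ (isIrr_isCharacter hirr)
  have h4 : (s : ℂ) = b - a := by rw [← hs, classInner_sub_right, h1, h3]
  have h5 : s + a = b := by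
    have : ((s : ℕ) : ℂ) + ((a : ℕ) : ℂ) = ((b : ℕ) : ℂ) := by rw [h4]; ring
    exact_mod_cast this
  have h6 : tw U ψ (fixedPointCharacter B - 1) = Nat.card U := by
    have h7 := sum_char (U := U) (Ω := Y ⧸ B) ψ
    rw [hm] at h7
    have h8 : ∑ u : U, ((ψ u⁻¹ : ℂˣ) : ℂ) = 0 := by
      classical
      have h9 := sum_hom (⊤ : Subgroup U) ψ
      have h10 : ¬ (⊤ : Subgroup U) ≤ ψ.ker := by
        intro h
        exact hψ (MonoidHom.ext fun u => h (Subgroup.mem_top u))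
      rw [if_neg h10] at h9
      rw [← h9]
      exact Fintype.sum_equiv Subgroup.topEquiv.symm.toEquiv _ _ fun u => rfl
    unfold tw
    have h11 : ∀ u : U, ((ψ u⁻¹ : ℂˣ) : ℂ) * (fixedPointCharacter B - 1) u =
        ((ψ u⁻¹ : ℂˣ) : ℂ) * (Nat.card (fixedBy (Y ⧸ B) u) : ℂ) - ((ψ u⁻¹ : ℂˣ) : ℂ) := by
      intro u
      rw [Pi.sub_apply, Pi.one_apply, mul_sub, mul_one]
      rfl
    rw [Finset.sum_congr rfl fun u _ => h11 u, Finset.sum_sub_distrib, h8, sub_zero, h7]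
    simp
  have := le_of_irr U ψ hirr h6 hθ hc hs
  omega

end

/-! ### Counting linear characters -/

open scoped Classical in
/-- The number of the nontrivial linear characters of the `2`-group `U` trivial on `V < U`, `V` normal, is odd. -/
theorem odd_card {U : Type*} [Group U] [Finite U] [Fintype (U →* ℂˣ)] (hU : IsPGroup 2 U) {V : Subgroup U} [V.Normal]
    (hV : V ≠ ⊤) : Odd (Finset.univ.filter fun ψ : U →* ℂˣ => ψ ≠ 1 ∧ V ≤ ψ.ker).card := by
  classical
  -- a character of order two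
  obtain ⟨φ, h1, h2⟩ := exists_char (p := 2) hU hV
  let emb : Multiplicative (ZMod 2) →* ℂˣ :=
    { toFun := fun x => if x = 1 then 1 else -1
      map_one' := by simp
      map_mul' := by
        intro x y
        have key : ∀ x y : Multiplicative (ZMod 2), (if x * y = 1 then (1 : ℂˣ) else -1) =
            (if x = 1 then 1 else -1) * (if y = 1 then 1 else -1) := by
          intro x y
          have hx : x = 1 ∨ x ≠ 1 := em _
          have hy : y = 1 ∨ y ≠ 1 := em _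
          rcases hx with rfl | hx
          · simp
          · rcases hy with rfl | hy
            · simp
            · have hxy : x * y = 1 := by
                have : ∀ a b : Multiplicative (ZMod 2), a ≠ 1 → b ≠ 1 → a * b = 1 := by decide
                exact this x y hx hy
              rw [if_pos hxy, if_neg hx, if_neg hy]
              simp
        exact key x y }
  have hne : (-1 : ℂˣ) ≠ 1 := by
    intro h
    have := congrArg (fun x : ℂˣ => (x : ℂ)) h
    norm_num at this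
  set ε : U →* ℂˣ := emb.comp φ with hε
  have hε1 : ε ≠ 1 := by
    intro h
    apply h2
    refine MonoidHom.ext fun u => ?_
    have h3 := DFunLike.congr_fun h u
    rw [hε, MonoidHom.comp_apply, MonoidHom.one_apply] at h3
    change (if φ u = 1 then (1 : ℂˣ) else -1) = 1 at h3
    show φ u = 1
    by_contra h4
    rw [if_neg h4] at h3
    exact hne h3
  have hεV : V ≤ ε.ker := by
    intro v hv
    have h3 : φ v = 1 := h1 hv
    rw [MonoidHom.mem_ker, hε, MonoidHom.comp_apply, h3, map_one]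
  have hε2 : ε * ε = 1 := by
    refine MonoidHom.ext fun u => ?_
    rw [MonoidHom.mul_apply, MonoidHom.one_apply, hε, MonoidHom.comp_apply]
    change (if φ u = 1 then (1 : ℂˣ) else -1) * (if φ u = 1 then (1 : ℂˣ) else -1) = 1
    split_ifs <;> simp
  -- the subgroup
  let A : Subgroup (U →* ℂˣ) :=
    { carrier := {ψ | V ≤ ψ.ker}
      one_mem' := fun v _ => by rw [MonoidHom.mem_ker, MonoidHom.one_apply]
      mul_mem' := fun {a b} ha hb v hv => by
        rw [MonoidHom.mem_ker, MonoidHom.mul_apply, MonoidHom.mem_ker.1 (ha hv), MonoidHom.mem_ker.1 (hb hv), one_mul]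
      inv_mem' := fun {a} ha v hv => by
        rw [MonoidHom.mem_ker, MonoidHom.inv_apply, MonoidHom.mem_ker.1 (ha hv), inv_one] }
  have hA2 : 2 ∣ Nat.card A := by
    have h3 : orderOf (⟨ε, hεV⟩ : A) = 2 := by
      refine orderOf_eq_prime ?_ ?_
      · rw [pow_two]
        exact Subtype.ext hε2
      · intro h
        exact hε1 (congrArg Subtype.val h)
    rw [← h3]
    exact orderOf_dvd_natCard _
  have h5 : Nat.card A = (Finset.univ.filter fun ψ : U →* ℂˣ => V ≤ ψ.ker).card := by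
    rw [← Fintype.card_subtype, ← Nat.card_eq_fintype_card]
    rfl
  have h6 : (Finset.univ.filter fun ψ : U →* ℂˣ => ψ ≠ 1 ∧ V ≤ ψ.ker) =
      (Finset.univ.filter fun ψ : U →* ℂˣ => V ≤ ψ.ker).erase 1 := by
    ext ψ
    simp only [Finset.mem_filter, Finset.mem_univ, true_and, Finset.mem_erase]
  rw [h6, Finset.card_erase_of_mem (Finset.mem_filter.2 ⟨Finset.mem_univ _, fun v _ => by
    rw [MonoidHom.mem_ker, MonoidHom.one_apply]⟩), ← h5]
  have h7 : 0 < Nat.card A := Nat.card_pos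
  obtain ⟨k, hk⟩ := hA2
  rw [hk] at h7 ⊢
  exact ⟨k - 1, by omega⟩

end Cfsg.Agent.H743.EP
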