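import Cfsg.Agent.H352.EP.SpDefs

/-!
# Orbits of the even orthogonal group on the maximal isotropic subspaces of the symplectic space (helper743)

`Sp n` over the field with two elements in the notation of `H352.EP.SpDefs`. `Y` a subgroup containing the elements
`lel (transvection i j)`, `qel (E_ij + E_ji)`, `wel {i, j}` for `i ≠ j`:
every maximal isotropic subspace is `Y`-conjugate to `FA = {v.2 = 0}`, `FB = {v.1 last = 0, v.2 j = 0 (j ≠ last)}` or
`FC = {v.1 last = v.2 last, v.2 j = 0 (j ≠ last)}`.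
-/

set_option autoImplicit false

open scoped Pointwise Matrix
open Matrix Module

namespace Cfsg.Agent.H743.EP.SpOrb

open Cfsg.Agent.H352.EP

variable {n : ℕ}

/-- a shortcut -/
local instance (priority := 10000) smulS (n : ℕ) : SMul (Sp n) (Vv n) := inferInstance

theorem zz (x : ZMod 2) : x + x = 0 := CharTwo.add_self_eq_zero x

theorem z_ne {x : ZMod 2} (h : x ≠ 0) : x = 1 := by
  revert h; revert x; decide

/-- the quadratic form -/
def Qf (v : Vv n) : ZMod 2 := v.1 ⬝ᵥ v.2

theorem Qf_add (u v : Vv n) : Qf (u + v) = Qf u + Qf v + form u v := by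
  simp only [Qf, form, Prod.fst_add, Prod.snd_add, add_dotProduct, dotProduct_add]
  rw [dotProduct_comm v.1 u.2]
  ring

/-- the moves -/
def fl (i j : Fin n) (v : Vv n) : Vv n := (v.1 + Pi.single i (v.1 j), v.2 + Pi.single j (v.2 i))

def fq (i j : Fin n) (v : Vv n) : Vv n := (v.1 + Pi.single i (v.2 j) + Pi.single j (v.2 i), v.2)

/-- the group contains the moves -/
structure Gen (Y : Subgroup (Sp n)) : Prop where
  l : ∀ i j, i ≠ j → ∀ y : Sp n, (∀ v : Vv n, y • v = fl i j v) → y ∈ Y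
  q : ∀ i j, i ≠ j → ∀ y : Sp n, (∀ v : Vv n, y • v = fq i j v) → y ∈ Y
  w : ∀ i j, i ≠ j → wel {i, j} ∈ Y

theorem ext_smul {y y' : Sp n} (h : ∀ v : Vv n, y • v = y' • v) : y = y' :=
  Subtype.ext (LinearEquiv.ext fun v => h v)

/-- a transvection as an element of `GL` -/
def tvu {i j : Fin n} (hij : i ≠ j) : GL (Fin n) (ZMod 2) where
  val := transvection i j 1
  inv := transvection i j 1
  val_inv := by
    rw [transvection_mul_transvection_same _ _ hij, zz, transvection_zero]
  inv_val := by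
    rw [transvection_mul_transvection_same _ _ hij, zz, transvection_zero]

theorem lel_tv {i j : Fin n} {g : GL (Fin n) (ZMod 2)} (hij : i ≠ j)
    (hg : (g : Matrix (Fin n) (Fin n) (ZMod 2)) = transvection i j 1) (v : Vv n) : lel g • v = fl i j v := by
  have h1 : g = tvu hij := Units.ext hg
  have h2 : ((g⁻¹ : GL (Fin n) (ZMod 2)) : Matrix (Fin n) (Fin n) (ZMod 2)) = transvection i j 1 := by
    rw [h1]; rfl
  rw [lel_smul, h2, hg]
  refine Prod.ext ?_ ?_
  · change transvection i j 1 *ᵥ v.1 = v.1 + Pi.single i (v.1 j)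
    rw [transvection, add_mulVec, one_mulVec]
    congr 1
    funext k
    rw [single_mulVec]
    by_cases hk : k = i
    · subst hk; simp
    · simp [hk]
  · change (transvection i j 1)ᵀ *ᵥ v.2 = v.2 + Pi.single j (v.2 i)
    rw [transvection, transpose_add, transpose_one, transpose_single, add_mulVec, one_mulVec]
    congr 1
    funext k
    rw [single_mulVec]
    by_cases hk : k = j
    · subst hk; simp
    · simp [hk]

theorem qel_ss {i j : Fin n} {s : Sym n} (hs : (s : Matrix (Fin n) (Fin n) (ZMod 2)) = single i j 1 + single j i 1)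
    (v : Vv n) : qel (Multiplicative.ofAdd s) • v = fq i j v := by
  rw [qel_smul, toAdd_ofAdd, hs]
  refine Prod.ext ?_ rfl
  change v.1 + (single i j 1 + single j i 1) *ᵥ v.2 = v.1 + Pi.single i (v.2 j) + Pi.single j (v.2 i)
  rw [add_mulVec, add_assoc]
  congr 1
  congr 1
  · funext k
    rw [single_mulVec]
    by_cases hk : k = i
    · subst hk; simp
    · simp [hk]
  · funext k
    rw [single_mulVec]
    by_cases hk : k = j
    · subst hk; simp
    · simp [hk]

/-- the symmetric matrix `E_ij + E_ji` -/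
def esm (i j : Fin n) : Sym n := ⟨single i j 1 + single j i 1, by
  change (single i j (1 : ZMod 2) + single j i 1)ᵀ = _
  rw [transpose_add, transpose_single, transpose_single, add_comm]⟩

theorem Gen.of {Y : Subgroup (Sp n)}
    (hl : ∀ i j, i ≠ j → ∀ g : GL (Fin n) (ZMod 2),
      (g : Matrix (Fin n) (Fin n) (ZMod 2)) = transvection i j 1 → lel g ∈ Y)
    (hq : ∀ i j, i ≠ j → ∀ s : Sym n, (s : Matrix (Fin n) (Fin n) (ZMod 2)) = single i j 1 + single j i 1 →
      qel (Multiplicative.ofAdd s) ∈ Y)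
    (hw : ∀ i j, i ≠ j → wel {i, j} ∈ Y) : Gen Y where
  l i j hij y hy := by
    have h1 : y = lel (tvu hij) := ext_smul fun v => by rw [hy, lel_tv hij rfl]
    rw [h1]
    exact hl i j hij _ rfl
  q i j hij y hy := by
    have h1 : y = qel (Multiplicative.ofAdd (esm i j)) := ext_smul fun v => by rw [hy, qel_ss rfl]
    rw [h1]
    exact hq i j hij _ rfl
  w := hw

namespace Gen

variable {Y : Subgroup (Sp n)} (H : Gen Y)

include H

theorem exists_l {i j : Fin n} (hij : i ≠ j) : ∃ y ∈ Y, ∀ v : Vv n, y • v = fl i j v :=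
  ⟨lel (tvu hij), H.l i j hij _ (fun v => lel_tv hij rfl v), fun v => lel_tv hij rfl v⟩

theorem exists_q {i j : Fin n} (hij : i ≠ j) : ∃ y ∈ Y, ∀ v : Vv n, y • v = fq i j v :=
  ⟨qel (Multiplicative.ofAdd (esm i j)), H.q i j hij _ (fun v => qel_ss rfl v), fun v => qel_ss rfl v⟩

end Gen

theorem Qf_fl {i j : Fin n} (hij : i ≠ j) (v : Vv n) : Qf (fl i j v) = Qf v := by
  simp only [Qf, fl, add_dotProduct, dotProduct_add, single_dotProduct, dotProduct_single]
  rw [Pi.add_apply, Pi.single_eq_of_ne hij.symm, add_zero]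
  have := zz (v.1 j * v.2 i)
  linear_combination this

theorem Qf_fq {i j : Fin n} (v : Vv n) : Qf (fq i j v) = Qf v := by
  simp only [Qf, fq, add_dotProduct, single_dotProduct]
  have := zz (v.2 i * v.2 j)
  linear_combination this

theorem Qf_wel (J : Finset (Fin n)) (v : Vv n) : Qf (wel J • v) = Qf v := by
  rw [wel_smul]
  simp only [Qf, dotProduct]
  refine Finset.sum_congr rfl fun i _ => ?_
  by_cases h : i ∈ J <;> simp only [h, if_true, if_false]
  ring

/-- the isometry group of the quadratic form -/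
def OQ (n : ℕ) : Subgroup (Sp n) where
  carrier := {g | ∀ v : Vv n, Qf (g • v) = Qf v}
  one_mem' v := by rw [one_smul]
  mul_mem' := by
    intro a b ha hb v
    rw [mul_smul, ha, hb]
  inv_mem' := by
    intro a ha v
    rw [← ha (a⁻¹ • v), smul_inv_smul]

theorem Gen.inf {Y : Subgroup (Sp n)} (H : Gen Y) : Gen (Y ⊓ OQ n) where
  l i j hij y hy := ⟨H.l i j hij y hy, fun v => by rw [hy, Qf_fl hij]⟩
  q i j hij y hy := ⟨H.q i j hij y hy, fun v => by rw [hy, Qf_fq]⟩
  w i j hij := ⟨H.w i j hij, fun v => Qf_wel _ v⟩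

/-! ### Vectors -/

section vec

variable {m : ℕ} {Y : Subgroup (Sp (m + 1))} (H : Gen Y)

include H

theorem red2 : ∀ (k : ℕ) (v : Vv (m + 1)), v.2 0 = 1 →
    (Finset.univ.filter fun j : Fin (m + 1) => j ≠ 0 ∧ v.2 j ≠ 0).card = k → ∃ y ∈ Y, (y • v).2 = Pi.single 0 1 := by
  intro k
  induction k with
  | zero =>
    intro v h0 hk
    refine ⟨1, one_mem _, ?_⟩
    rw [one_smul]
    rw [Finset.card_eq_zero, Finset.filter_eq_empty_iff] at hk
    funext j
    by_cases hj : j = 0
    · subst hj; rw [h0, Pi.single_eq_same]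
    · rw [Pi.single_eq_of_ne hj]
      by_contra hc
      exact hk (Finset.mem_univ j) ⟨hj, hc⟩
  | succ k ih =>
    intro v h0 hk
    obtain ⟨j, hj⟩ := Finset.card_pos.1 (by rw [hk]; exact Nat.succ_pos k)
    have hj' := (Finset.mem_filter.1 hj).2
    obtain ⟨y, hy, hyv⟩ := H.exists_l (i := 0) (j := j) hj'.1.symm
    have e1 : ∀ l, (y • v).2 l = if l = j then 0 else v.2 l := by
      intro l
      rw [hyv]
      change v.2 l + (Pi.single j (v.2 0) : Fin (m + 1) → ZMod 2) l = _
      split_ifs with hl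
      · subst hl
        rw [Pi.single_eq_same, z_ne hj'.2, h0]
        exact zz 1
      · rw [Pi.single_eq_of_ne hl, add_zero]
    obtain ⟨y', hy', e⟩ := ih (y • v) (by rw [e1, if_neg hj'.1.symm, h0]) (by
      have h1 : (Finset.univ.filter fun l : Fin (m + 1) => l ≠ 0 ∧ (y • v).2 l ≠ 0) =
          (Finset.univ.filter fun l : Fin (m + 1) => l ≠ 0 ∧ v.2 l ≠ 0).erase j := by
        ext l
        rw [Finset.mem_erase, Finset.mem_filter, Finset.mem_filter, e1]
        by_cases hl : l = j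
        · simp [hl]
        · simp [hl]
      rw [h1, Finset.card_erase_of_mem hj, hk]
      rfl)
    exact ⟨y' * y, mul_mem hy' hy, by rw [mul_smul]; exact e⟩

theorem red1 : ∀ (k : ℕ) (v : Vv (m + 1)), v.2 = Pi.single 0 1 → v.1 0 = 0 →
    (Finset.univ.filter fun j : Fin (m + 1) => v.1 j ≠ 0).card = k → ∃ y ∈ Y, y • v = (0, Pi.single 0 1) := by
  intro k
  induction k with
  | zero =>
    intro v h2 h1 hk
    refine ⟨1, one_mem _, ?_⟩
    rw [one_smul]
    rw [Finset.card_eq_zero, Finset.filter_eq_empty_iff] at hk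
    refine Prod.ext (funext fun j => ?_) h2
    by_contra hc
    exact hk (Finset.mem_univ j) hc
  | succ k ih =>
    intro v h2 h1 hk
    obtain ⟨j, hj⟩ := Finset.card_pos.1 (by rw [hk]; exact Nat.succ_pos k)
    have hj' := (Finset.mem_filter.1 hj).2
    have hj0 : j ≠ 0 := by rintro rfl; exact hj' h1
    obtain ⟨y, hy, hyv⟩ := H.exists_q (i := 0) (j := j) hj0.symm
    have e2 : (y • v).2 = Pi.single 0 1 := by rw [hyv]; exact h2
    have e1 : ∀ l, (y • v).1 l = if l = j then 0 else v.1 l := by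
      intro l
      rw [hyv]
      change v.1 l + (Pi.single 0 (v.2 j) : Fin (m + 1) → ZMod 2) l + (Pi.single j (v.2 0) : Fin (m + 1) → ZMod 2) l = _
      rw [h2, Pi.single_eq_of_ne hj0, Pi.single_zero, Pi.zero_apply, add_zero, Pi.single_eq_same]
      split_ifs with hl
      · subst hl
        rw [Pi.single_eq_same, z_ne hj']
        exact zz 1
      · rw [Pi.single_eq_of_ne hl, add_zero]
    obtain ⟨y', hy', e⟩ := ih (y • v) e2 (by rw [e1, if_neg hj0.symm, h1]) (by
      have h1 : (Finset.univ.filter fun l : Fin (m + 1) => (y • v).1 l ≠ 0) =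
          (Finset.univ.filter fun l : Fin (m + 1) => v.1 l ≠ 0).erase j := by
        ext l
        rw [Finset.mem_erase, Finset.mem_filter, Finset.mem_filter, e1]
        by_cases hl : l = j
        · simp [hl]
        · simp [hl]
      rw [h1, Finset.card_erase_of_mem hj, hk]
      rfl)
    exact ⟨y' * y, mul_mem hy' hy, by rw [mul_smul]; exact e⟩

end vec

/-- **singular vectors** -/
theorem exists_smul_eq {m : ℕ} {Y : Subgroup (Sp (m + 2))} (H : Gen Y) (hQ : ∀ y ∈ Y, ∀ v : Vv (m + 2), Qf (y • v) = Qf v)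
    {v : Vv (m + 2)} (hv : v ≠ 0) (hs : Qf v = 0) : ∃ y ∈ Y, y • v = (Pi.single 0 1, 0) := by
  -- `v.2 ≠ 0`
  have key2 : ∀ v : Vv (m + 2), Qf v = 0 → v.2 0 = 1 → ∃ y ∈ Y, y • v = (Pi.single 0 1, 0) := by
    intro v hs h0
    obtain ⟨y, hy, e⟩ := red2 H _ v h0 rfl
    have hs' : Qf (y • v) = 0 := by rw [hQ y hy, hs]
    have h1 : (y • v).1 0 = 0 := by
      unfold Qf at hs'
      rwa [e, dotProduct_single, mul_one] at hs'
    obtain ⟨y', hy', e'⟩ := red1 H _ (y • v) e h1 rfl
    refine ⟨wel {0, 1} * y' * y, mul_mem (mul_mem (H.w 0 1 (by simp)) hy') hy, ?_⟩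
    rw [mul_smul, mul_smul, e', wel_smul]
    refine Prod.ext (funext fun i => ?_) (funext fun i => ?_)
    · change (if i ∈ ({0, 1} : Finset (Fin (m + 2))) then (Pi.single 0 1 : Fin (m + 2) → ZMod 2) i else 0) =
        (Pi.single 0 1 : Fin (m + 2) → ZMod 2) i
      split_ifs with hi
      · rfl
      · rw [Pi.single_eq_of_ne]
        rintro rfl
        exact hi (by simp)
    · change (if i ∈ ({0, 1} : Finset (Fin (m + 2))) then (0 : ZMod 2) else (Pi.single 0 1 : Fin (m + 2) → ZMod 2) i) = 0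
      split_ifs with hi
      · rfl
      · rw [Pi.single_eq_of_ne]
        rintro rfl
        exact hi (by simp)
  have key1 : ∀ v : Vv (m + 2), Qf v = 0 → v.2 ≠ 0 → ∃ y ∈ Y, y • v = (Pi.single 0 1, 0) := by
    intro v hs h0
    by_cases h1 : v.2 0 = 1
    · exact key2 v hs h1
    · obtain ⟨i, hi⟩ := Function.ne_iff.1 h0
      have h2 : v.2 0 = 0 := by
        by_contra hc; exact h1 (z_ne hc)
      have hi0 : i ≠ 0 := by rintro rfl; exact hi h2
      obtain ⟨y, hy, e⟩ := H.exists_l (i := i) (j := 0) hi0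
      obtain ⟨y', hy', e'⟩ := key2 (y • v) (by rw [hQ y hy, hs]) (by
        rw [e]
        change v.2 0 + (Pi.single 0 (v.2 i) : Fin (m + 2) → ZMod 2) 0 = 1
        rw [Pi.single_eq_same, h2, zero_add]
        exact z_ne hi)
      exact ⟨y' * y, mul_mem hy' hy, by rw [mul_smul, e']⟩
  by_cases h0 : v.2 = 0
  · have h1 : v.1 ≠ 0 := fun h1 => hv (Prod.ext h1 h0)
    obtain ⟨i, hi⟩ := Function.ne_iff.1 h1
    obtain ⟨j, hj⟩ := exists_ne i
    have hw := H.w i j hj.symm
    obtain ⟨y', hy', e'⟩ := key1 (wel {i, j} • v) (by rw [hQ _ hw, hs]) (by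
      intro hc
      have h3 := congrFun hc i
      rw [wel_smul] at h3
      have h4 : i ∈ ({i, j} : Finset (Fin (m + 2))) := by simp
      simp only [h4, if_true] at h3
      exact hi h3)
    exact ⟨y' * wel {i, j}, mul_mem hy' hw, by rw [mul_smul, e']⟩
  · exact key1 v hs h0

/-! ### Splitting off the first coordinates -/

/-- the tail of a vector -/
def tl {m : ℕ} (v : Vv (m + 1)) : Vv m := (fun i => v.1 i.succ, fun i => v.2 i.succ)

/-- prepending coordinates -/
def cn {m : ℕ} (c d : ZMod 2) (u : Vv m) : Vv (m + 1) := (Fin.cons c u.1, Fin.cons d u.2)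

theorem tl_cn {m : ℕ} (c d : ZMod 2) (u : Vv m) : tl (cn c d u) = u := rfl

theorem cn_fst {m : ℕ} (c d : ZMod 2) (u : Vv m) : (cn c d u).1 0 = c := rfl

theorem cn_snd {m : ℕ} (c d : ZMod 2) (u : Vv m) : (cn c d u).2 0 = d := rfl

theorem ext_tl {m : ℕ} {u v : Vv (m + 1)} (h1 : u.1 0 = v.1 0) (h2 : u.2 0 = v.2 0) (h3 : tl u = tl v) : u = v := by
  refine Prod.ext (funext fun i => ?_) (funext fun i => ?_)
  · refine Fin.cases h1 (fun j => ?_) i
    exact congrFun (congrArg Prod.fst h3) j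
  · refine Fin.cases h2 (fun j => ?_) i
    exact congrFun (congrArg Prod.snd h3) j

theorem cn_tl {m : ℕ} (v : Vv (m + 1)) : cn (v.1 0) (v.2 0) (tl v) = v := ext_tl rfl rfl rfl

theorem form_succ {m : ℕ} (u v : Vv (m + 1)) :
    form u v = u.1 0 * v.2 0 + u.2 0 * v.1 0 + form (tl u) (tl v) := by
  rw [form_eq_sum, form_eq_sum, Fin.sum_univ_succ]
  rfl

/-- the embedding of symplectic groups, linear part -/
def embF {m : ℕ} (g : Sp m) : Vv (m + 1) ≃ₗ[ZMod 2] Vv (m + 1) where
  toFun v := cn (v.1 0) (v.2 0) (g • tl v)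
  invFun v := cn (v.1 0) (v.2 0) (g⁻¹ • tl v)
  map_add' u v := by
    refine ext_tl rfl rfl ?_
    change g • (tl u + tl v) = g • tl u + g • tl v
    exact map_add (g : Vv m ≃ₗ[ZMod 2] Vv m) (tl u) (tl v)
  map_smul' c v := by
    refine ext_tl rfl rfl ?_
    exact map_smul (g : Vv m ≃ₗ[ZMod 2] Vv m) c (tl v)
  left_inv v := by
    refine ext_tl rfl rfl ?_
    exact inv_smul_smul g (tl v)
  right_inv v := by
    refine ext_tl rfl rfl ?_
    exact smul_inv_smul g (tl v)

/-- the embedding of symplectic groups -/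
def emb {m : ℕ} : Sp m →* Sp (m + 1) where
  toFun g := ⟨embF g, fun u v => by
    rw [form_succ, form_succ u v]
    change u.1 0 * v.2 0 + u.2 0 * v.1 0 + form (g • tl u) (g • tl v) = _
    rw [form_smul]⟩
  map_one' := ext_smul fun v => by
    change cn (v.1 0) (v.2 0) ((1 : Sp m) • tl v) = (1 : Sp (m + 1)) • v
    rw [one_smul, one_smul, cn_tl]
  map_mul' g k := ext_smul fun v => by
    change cn (v.1 0) (v.2 0) ((g * k) • tl v) = cn (v.1 0) (v.2 0) (g • (k • tl v))
    rw [mul_smul]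

theorem emb_smul {m : ℕ} (g : Sp m) (v : Vv (m + 1)) : emb g • v = cn (v.1 0) (v.2 0) (g • tl v) := rfl

theorem Gen.comap {m : ℕ} {Y : Subgroup (Sp (m + 1))} (H : Gen Y) : Gen (Y.comap emb) where
  l i j hij y hy := by
    refine H.l i.succ j.succ (fun he => hij (Fin.succ_injective _ he)) (emb y) fun v => ?_
    rw [emb_smul, hy]
    refine ext_tl ?_ ?_ ?_
    · change v.1 0 = v.1 0 + (Pi.single i.succ (v.1 j.succ) : Fin (m + 1) → ZMod 2) 0
      rw [Pi.single_eq_of_ne (Fin.succ_ne_zero i).symm, add_zero]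
    · change v.2 0 = v.2 0 + (Pi.single j.succ (v.2 i.succ) : Fin (m + 1) → ZMod 2) 0
      rw [Pi.single_eq_of_ne (Fin.succ_ne_zero j).symm, add_zero]
    · refine Prod.ext (funext fun k => ?_) (funext fun k => ?_)
      · change v.1 k.succ + (Pi.single i (v.1 j.succ) : Fin m → ZMod 2) k =
          v.1 k.succ + (Pi.single i.succ (v.1 j.succ) : Fin (m + 1) → ZMod 2) k.succ
        rw [Pi.single_apply, Pi.single_apply]
        simp only [Fin.succ_inj]
      · change v.2 k.succ + (Pi.single j (v.2 i.succ) : Fin m → ZMod 2) k =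
          v.2 k.succ + (Pi.single j.succ (v.2 i.succ) : Fin (m + 1) → ZMod 2) k.succ
        rw [Pi.single_apply, Pi.single_apply]
        simp only [Fin.succ_inj]
  q i j hij y hy := by
    refine H.q i.succ j.succ (fun he => hij (Fin.succ_injective _ he)) (emb y) fun v => ?_
    rw [emb_smul, hy]
    refine ext_tl ?_ rfl ?_
    · change v.1 0 = v.1 0 + (Pi.single i.succ (v.2 j.succ) : Fin (m + 1) → ZMod 2) 0 +
        (Pi.single j.succ (v.2 i.succ) : Fin (m + 1) → ZMod 2) 0
      rw [Pi.single_eq_of_ne (Fin.succ_ne_zero i).symm, Pi.single_eq_of_ne (Fin.succ_ne_zero j).symm, add_zero,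
        add_zero]
    · refine Prod.ext (funext fun k => ?_) rfl
      change v.1 k.succ + (Pi.single i (v.2 j.succ) : Fin m → ZMod 2) k +
          (Pi.single j (v.2 i.succ) : Fin m → ZMod 2) k =
        v.1 k.succ + (Pi.single i.succ (v.2 j.succ) : Fin (m + 1) → ZMod 2) k.succ +
          (Pi.single j.succ (v.2 i.succ) : Fin (m + 1) → ZMod 2) k.succ
      rw [Pi.single_apply, Pi.single_apply, Pi.single_apply, Pi.single_apply]
      simp only [Fin.succ_inj]
  w i j hij := by
    have h1 := H.w i.succ j.succ fun he => hij (Fin.succ_injective _ he)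
    have h2 : emb (wel {i, j}) = wel ({i.succ, j.succ} : Finset (Fin (m + 1))) := by
      refine ext_smul fun v => ?_
      rw [emb_smul, wel_smul, wel_smul]
      refine ext_tl ?_ ?_ ?_
      · change v.1 0 = if (0 : Fin (m + 1)) ∈ ({i.succ, j.succ} : Finset (Fin (m + 1))) then v.2 0 else v.1 0
        rw [if_neg]
        simp [(Fin.succ_ne_zero i).symm, (Fin.succ_ne_zero j).symm]
      · change v.2 0 = if (0 : Fin (m + 1)) ∈ ({i.succ, j.succ} : Finset (Fin (m + 1))) then v.1 0 else v.2 0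
        rw [if_neg]
        simp [(Fin.succ_ne_zero i).symm, (Fin.succ_ne_zero j).symm]
      · have h3 : ∀ k : Fin m, k.succ ∈ ({i.succ, j.succ} : Finset (Fin (m + 1))) ↔ k ∈ ({i, j} : Finset (Fin m)) := by
          intro k
          simp [Fin.succ_inj]
        refine Prod.ext (funext fun k => ?_) (funext fun k => ?_)
        · change (if k ∈ ({i, j} : Finset (Fin m)) then v.2 k.succ else v.1 k.succ) =
            if k.succ ∈ ({i.succ, j.succ} : Finset (Fin (m + 1))) then v.2 k.succ else v.1 k.succ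
          simp only [h3]
        · change (if k ∈ ({i, j} : Finset (Fin m)) then v.1 k.succ else v.2 k.succ) =
            if k.succ ∈ ({i.succ, j.succ} : Finset (Fin (m + 1))) then v.1 k.succ else v.2 k.succ
          simp only [h3]
    change emb (wel {i, j}) ∈ Y
    rw [h2]
    exact h1

/-! ### The three subspaces -/

/-- `{v.2 = 0}` -/
def FA (n : ℕ) : Lag n :=
  ⟨LinearMap.ker (LinearMap.snd (ZMod 2) (Fin n → ZMod 2) (Fin n → ZMod 2)), by
    refine ⟨fun u hu v hv => ?_, ?_⟩
    · have h1 : u.2 = 0 := hu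
      have h2 : v.2 = 0 := hv
      simp only [form, h1, h2, dotProduct_zero, zero_dotProduct, add_zero]
    · have h1 := LinearMap.finrank_range_add_finrank_ker (LinearMap.snd (ZMod 2) (Fin n → ZMod 2) (Fin n → ZMod 2))
      rw [LinearMap.range_eq_top.2 LinearMap.snd_surjective, finrank_top, Module.finrank_prod, Module.finrank_fin_fun] at h1
      exact Nat.add_left_cancel h1⟩

theorem mem_FA {v : Vv n} : v ∈ (FA n).1 ↔ v.2 = 0 := Iff.rfl

/-- the last index -/
def lst (hn : 1 ≤ n) : Fin n := ⟨n - 1, by omega⟩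

/-- `{v.1 last = 0, v.2 j = 0 for j ≠ last}` -/
def FB (hn : 1 ≤ n) : Lag n := wel {lst hn} • FA n

theorem mem_smul {y : Sp n} {S : Lag n} {v : Vv n} : v ∈ (y • S).1 ↔ y⁻¹ • v ∈ S.1 := mem_act y S.1 v

theorem wel_inv (J : Finset (Fin n)) : (wel J)⁻¹ = wel J := inv_eq_of_mul_eq_one_left (wel_mul_self J)

theorem mem_FB (hn : 1 ≤ n) {v : Vv n} : v ∈ (FB hn).1 ↔ v.1 (lst hn) = 0 ∧ ∀ j, j ≠ lst hn → v.2 j = 0 := by
  unfold FB
  rw [mem_smul, mem_FA, wel_inv, wel_smul]
  constructor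
  · intro h1
    refine ⟨?_, fun j hj => ?_⟩
    · have := congrFun h1 (lst hn)
      simpa using this
    · have := congrFun h1 j
      simpa [hj] using this
  · rintro ⟨h1, h2⟩
    funext j
    by_cases hj : j = lst hn
    · subst hj
      simpa using h1
    · simpa [hj] using h2 j hj

/-- the symmetric matrix `E_ll` -/
def edm (l : Fin n) : Sym n := ⟨single l l 1, by
  change (single l l (1 : ZMod 2))ᵀ = _
  rw [transpose_single]⟩

/-- `{v.1 last = v.2 last, v.2 j = 0 for j ≠ last}` -/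
def FC (hn : 1 ≤ n) : Lag n := qel (Multiplicative.ofAdd (edm (lst hn))) • FB hn

theorem mem_FC (hn : 1 ≤ n) {v : Vv n} :
    v ∈ (FC hn).1 ↔ v.1 (lst hn) = v.2 (lst hn) ∧ ∀ j, j ≠ lst hn → v.2 j = 0 := by
  unfold FC
  rw [mem_smul, mem_FB]
  have h1 : (qel (Multiplicative.ofAdd (edm (lst hn))))⁻¹ • v = (v.1 + single (lst hn) (lst hn) 1 *ᵥ v.2, v.2) := by
    rw [inv_smul_eq_iff, qel_smul]
    refine Prod.ext ?_ rfl
    change v.1 = v.1 + single (lst hn) (lst hn) 1 *ᵥ v.2 + single (lst hn) (lst hn) 1 *ᵥ v.2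
    rw [add_assoc, vadd_self, add_zero]
  rw [h1]
  refine and_congr_left fun _ => ?_
  change v.1 (lst hn) + (single (lst hn) (lst hn) (1 : ZMod 2) *ᵥ v.2) (lst hn) = 0 ↔ _
  rw [single_mulVec, Function.update_self, one_mul]
  have key : ∀ a b : ZMod 2, a + b = 0 ↔ a = b := by decide
  exact key _ _

theorem eq_of_le {S T : Lag n} (h : S.1 ≤ T.1) : S = T :=
  Lag.ext (Submodule.eq_of_le_of_finrank_eq h (by rw [S.2.2, T.2.2]))

theorem lst_succ (m : ℕ) : lst (n := m + 1) (Nat.succ_le_succ (Nat.zero_le m)) = Fin.last m := rfl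

/-- the inclusion -/
def inc (m : ℕ) : Vv m →ₗ[ZMod 2] Vv (m + 1) where
  toFun u := cn 0 0 u
  map_add' u v := ext_tl (add_zero (0 : ZMod 2)).symm (add_zero (0 : ZMod 2)).symm rfl
  map_smul' c v := ext_tl (mul_zero c).symm (mul_zero c).symm rfl

/-- the first basis vector -/
def e0 (m : ℕ) : Vv (m + 1) := (Pi.single 0 1, 0)

theorem tl_e0 (m : ℕ) : tl (e0 m) = 0 := by
  refine Prod.ext (funext fun k => ?_) rfl
  change (Pi.single 0 1 : Fin (m + 1) → ZMod 2) k.succ = 0
  rw [Pi.single_eq_of_ne (Fin.succ_ne_zero k)]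

theorem form_e0 {m : ℕ} (v : Vv (m + 1)) : form (e0 m) v = v.2 0 := by
  rw [form_succ, tl_e0, form_zero_left, add_zero]
  change (Pi.single 0 1 : Fin (m + 1) → ZMod 2) 0 * v.2 0 + 0 * v.1 0 = _
  rw [Pi.single_eq_same, one_mul, zero_mul, add_zero]

theorem snd_zero {m : ℕ} {S : Lag (m + 1)} (he : e0 m ∈ S.1) {v : Vv (m + 1)} (hv : v ∈ S.1) : v.2 0 = 0 := by
  rw [← form_e0]
  exact S.2.1 _ he _ hv

theorem eq_add {m : ℕ} {v : Vv (m + 1)} (hv : v.2 0 = 0) : v = v.1 0 • e0 m + inc m (tl v) := by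
  refine ext_tl ?_ ?_ ?_
  · change v.1 0 = v.1 0 * (Pi.single 0 1 : Fin (m + 1) → ZMod 2) 0 + 0
    rw [Pi.single_eq_same, mul_one, add_zero]
  · change v.2 0 = v.1 0 * 0 + 0
    rw [hv, mul_zero, add_zero]
  · change tl v = v.1 0 • tl (e0 m) + tl v
    rw [tl_e0, smul_zero, zero_add]

theorem tl_mem {m : ℕ} {S : Lag (m + 1)} (he : e0 m ∈ S.1) {v : Vv (m + 1)} (hv : v ∈ S.1) :
    inc m (tl v) ∈ S.1 := by
  have h1 := eq_add (snd_zero he hv)
  have h2 : inc m (tl v) = v - v.1 0 • e0 m := by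
    rw [eq_sub_iff_add_eq]
    exact (add_comm _ _).trans h1.symm
  rw [h2]
  exact Submodule.sub_mem _ hv (Submodule.smul_mem _ _ he)

/-- the quotient by `e_0` -/
def qe {m : ℕ} {S : Lag (m + 1)} (he : e0 m ∈ S.1) : S.1 ≃ₗ[ZMod 2] ZMod 2 × (S.1.comap (inc m)) where
  toFun v := ((v : Vv (m + 1)).1 0, ⟨tl v, tl_mem he v.2⟩)
  invFun x := ⟨x.1 • e0 m + inc m x.2, Submodule.add_mem _ (Submodule.smul_mem _ _ he) x.2.2⟩
  map_add' u v := rfl
  map_smul' c v := rfl
  left_inv v := Subtype.ext (eq_add (snd_zero he v.2)).symm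
  right_inv x := by
    refine Prod.ext ?_ (Subtype.ext ?_)
    · change x.1 * (Pi.single 0 1 : Fin (m + 1) → ZMod 2) 0 + 0 = x.1
      rw [Pi.single_eq_same, mul_one, add_zero]
    · change x.1 • tl (e0 m) + x.2 = x.2
      rw [tl_e0, smul_zero, zero_add]

/-- the rest of a Lagrangian containing `e_0` -/
def rest {m : ℕ} (S : Lag (m + 1)) (he : e0 m ∈ S.1) : Lag m := by
  refine ⟨S.1.comap (inc m), fun u hu v hv => ?_, ?_⟩
  · have h1 := S.2.1 _ hu _ hv
    rw [form_succ] at h1
    change (0 : ZMod 2) * 0 + 0 * 0 + form u v = 0 at h1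
    rwa [mul_zero, add_zero, zero_add] at h1
  · have h1 := (qe he).finrank_eq
    rw [S.2.2, Module.finrank_prod, Module.finrank_self] at h1
    exact (Nat.add_left_cancel ((add_comm 1 m).trans h1)).symm

theorem mem_rest {m : ℕ} {S : Lag (m + 1)} (he : e0 m ∈ S.1) {u : Vv m} : u ∈ (rest S he).1 ↔ inc m u ∈ S.1 := Iff.rfl

theorem mem_iff_rest {m : ℕ} {S : Lag (m + 1)} (he : e0 m ∈ S.1) {v : Vv (m + 1)} :
    v ∈ S.1 ↔ v.2 0 = 0 ∧ tl v ∈ (rest S he).1 := by
  constructor
  · exact fun hv => ⟨snd_zero he hv, tl_mem he hv⟩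
  · rintro ⟨h1, h2⟩
    rw [eq_add h1]
    exact Submodule.add_mem _ (Submodule.smul_mem _ _ he) h2

/-- a singular vector in a Lagrangian -/
theorem exists_singular {m : ℕ} (S : Lag (m + 2)) : ∃ v ∈ S.1, v ≠ 0 ∧ Qf v = 0 := by
  let f : S.1 →ₗ[ZMod 2] ZMod 2 :=
    { toFun := fun v => Qf (v : Vv (m + 2))
      map_add' := fun u v => by
        rw [Submodule.coe_add, Qf_add, S.2.1 _ u.2 _ v.2, add_zero]
      map_smul' := fun c v => by
        rw [Submodule.coe_smul, RingHom.id_apply]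
        simp only [Qf, Prod.smul_fst, Prod.smul_snd, smul_dotProduct, dotProduct_smul, smul_eq_mul]
        have key : ∀ c x : ZMod 2, c * (c * x) = c * x := by decide
        exact key _ _ }
  have h1 : finrank (ZMod 2) (ZMod 2) < finrank (ZMod 2) S.1 := by
    rw [S.2.2, Module.finrank_self]; omega
  have h2 := LinearMap.ker_ne_bot_of_finrank_lt (f := f) h1
  obtain ⟨v, hv, hv0⟩ := (Submodule.ne_bot_iff _).1 h2
  exact ⟨v, v.2, fun h3 => hv0 (Subtype.ext h3), hv⟩

theorem emb_mem {m : ℕ} {S : Lag (m + 1)} (he : e0 m ∈ S.1) (y : Sp m) {v : Vv (m + 1)} :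
    v ∈ (emb y • S).1 ↔ v.2 0 = 0 ∧ tl v ∈ (y • rest S he).1 := by
  rw [mem_smul, ← map_inv, emb_smul, mem_iff_rest he, mem_smul]
  rfl

/-- **Every Lagrangian is conjugate to one of the three.** -/
theorem orb (m : ℕ) : ∀ (Y : Subgroup (Sp (m + 1))) (_ : Gen Y) (S : Lag (m + 1)), ∃ y ∈ Y,
    y • S = FA (m + 1) ∨ y • S = FB (Nat.succ_le_succ (Nat.zero_le m)) ∨
      y • S = FC (Nat.succ_le_succ (Nat.zero_le m)) := by
  induction m with
  | zero =>
    intro Y _ S
    refine ⟨1, one_mem _, ?_⟩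
    rw [one_smul]
    have h0 : 0 < finrank (ZMod 2) S.1 := by rw [S.2.2]; omega
    have := Module.nontrivial_of_finrank_pos h0
    obtain ⟨v, hv⟩ := exists_ne (0 : S.1)
    have hv0 : (v : Vv 1) ≠ 0 := fun h => hv (Subtype.ext h)
    have hf : ∀ u ∈ S.1, (v : Vv 1).1 0 * u.2 0 + (v : Vv 1).2 0 * u.1 0 = 0 := by
      intro u hu
      have h1 := S.2.1 _ v.2 _ hu
      rw [form_eq_sum, Fin.sum_univ_one] at h1
      exact h1
    have hl : ∀ j : Fin 1, j = 0 := fun j => Subsingleton.elim _ _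
    by_cases h1 : (v : Vv 1).1 0 = 0
    · have h2 : (v : Vv 1).2 0 = 1 := by
        apply z_ne
        intro h2
        exact hv0 (Prod.ext (funext fun j => by rw [hl j]; exact h1) (funext fun j => by rw [hl j]; exact h2))
      right; left
      refine eq_of_le fun u hu => (mem_FB _).2 ⟨?_, fun j hj => absurd (Subsingleton.elim _ _) hj⟩
      have h3 := hf u hu
      rw [h1, h2, zero_mul, one_mul, zero_add] at h3
      exact h3
    · by_cases h2 : (v : Vv 1).2 0 = 0
      · left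
        refine eq_of_le fun u hu => mem_FA.2 (funext fun j => ?_)
        have h3 := hf u hu
        rw [z_ne h1, h2, zero_mul, one_mul, add_zero] at h3
        rw [hl j]
        exact h3
      · right; right
        refine eq_of_le fun u hu => (mem_FC _).2 ⟨?_, fun j hj => absurd (Subsingleton.elim _ _) hj⟩
        have h3 := hf u hu
        rw [z_ne h1, z_ne h2, one_mul, one_mul] at h3
        have key : ∀ a b : ZMod 2, a + b = 0 → b = a := by decide
        exact key _ _ h3
  | succ m ih =>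
    intro Y H S
    obtain ⟨v, hv, hv0, hQ⟩ := exists_singular S
    obtain ⟨y, hy, e⟩ := exists_smul_eq H.inf (fun y hy v => hy.2 v) hv0 hQ
    have he : e0 (m + 1) ∈ (y • S).1 := by
      have h1 : y • v ∈ (y • S).1 := (smul_mem_act y S.1 v).2 hv
      rw [e] at h1
      exact h1
    obtain ⟨y', hy', hor⟩ := ih _ H.comap (rest (y • S) he)
    refine ⟨emb y' * y, mul_mem hy' hy.1, ?_⟩
    rw [mul_smul]
    rcases hor with h1 | h1 | h1
    · left
      refine Lag.ext (Submodule.ext fun u => ?_)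
      rw [emb_mem he, h1, mem_FA, mem_FA]
      constructor
      · rintro ⟨h2, h3⟩
        funext j
        refine Fin.cases h2 (fun k => ?_) j
        exact congrFun h3 k
      · intro h2
        exact ⟨congrFun h2 0, funext fun k => congrFun h2 k.succ⟩
    · right; left
      refine Lag.ext (Submodule.ext fun u => ?_)
      rw [emb_mem he, h1, mem_FB, mem_FB]
      constructor
      · rintro ⟨h2, h3, h4⟩
        refine ⟨h3, fun j => ?_⟩
        refine Fin.cases (fun _ => h2) (fun k hk => ?_) j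
        exact h4 k fun hc => hk (by rw [hc]; rfl)
      · rintro ⟨h2, h3⟩
        refine ⟨h3 0 ?_, h2, fun k hk => h3 k.succ fun hc => hk (Fin.succ_injective _ hc)⟩
        intro hc
        exact absurd (congrArg Fin.val hc) (by simp [lst])
    · right; right
      refine Lag.ext (Submodule.ext fun u => ?_)
      rw [emb_mem he, h1, mem_FC, mem_FC]
      constructor
      · rintro ⟨h2, h3, h4⟩
        refine ⟨h3, fun j => ?_⟩
        refine Fin.cases (fun _ => h2) (fun k hk => ?_) j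
        exact h4 k fun hc => hk (by rw [hc]; rfl)
      · rintro ⟨h2, h3⟩
        refine ⟨h3 0 ?_, h2, fun k hk => h3 k.succ fun hc => hk (Fin.succ_injective _ hc)⟩
        intro hc
        exact absurd (congrArg Fin.val hc) (by simp [lst])

/-- **The orbits of `Y` on the maximal isotropic subspaces.** -/
theorem orbit_rep (hn : 1 ≤ n) (Y : Subgroup (Sp n))
    (hl : ∀ i j, i ≠ j → ∀ g : GL (Fin n) (ZMod 2),
      (g : Matrix (Fin n) (Fin n) (ZMod 2)) = transvection i j 1 → lel g ∈ Y)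
    (hq : ∀ i j, i ≠ j → ∀ s : Sym n, (s : Matrix (Fin n) (Fin n) (ZMod 2)) = single i j 1 + single j i 1 →
      qel (Multiplicative.ofAdd s) ∈ Y)
    (hw : ∀ i j, i ≠ j → wel {i, j} ∈ Y) (S : Lag n) :
    ∃ y ∈ Y, y • S = FA n ∨ y • S = FB hn ∨ y • S = FC hn := by
  obtain ⟨m, rfl⟩ : ∃ m, n = m + 1 := ⟨n - 1, by omega⟩
  exact orb m Y (Gen.of hl hq hw) S

/-- the positive elements fix the three subspaces -/
theorem lel_fix (hn : 1 ≤ n) {k l : Fin n} (hkl : k < l) {g : GL (Fin n) (ZMod 2)}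
    (hg : (g : Matrix (Fin n) (Fin n) (ZMod 2)) = transvection k l 1) :
    lel g • FA n = FA n ∧ lel g • FB hn = FB hn ∧ lel g • FC hn = FC hn := by
  have hk : k ≠ lst hn := by
    intro hc
    have h1 : (k : ℕ) = n - 1 := congrArg Fin.val hc
    have h2 : (k : ℕ) < l := hkl
    have h3 := l.2
    omega
  have h1 : (lel g)⁻¹ = lel g := by
    apply inv_eq_of_mul_eq_one_left
    refine ext_smul fun v => ?_
    rw [mul_smul, lel_tv hkl.ne hg, lel_tv hkl.ne hg, one_smul]
    refine Prod.ext (funext fun j => ?_) (funext fun j => ?_)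
    · change v.1 j + (Pi.single k (v.1 l) : Fin n → ZMod 2) j +
        (Pi.single k (v.1 l + (Pi.single k (v.1 l) : Fin n → ZMod 2) l) : Fin n → ZMod 2) j = v.1 j
      rw [Pi.single_eq_of_ne hkl.ne', add_zero, add_assoc, zz, add_zero]
    · change v.2 j + (Pi.single l (v.2 k) : Fin n → ZMod 2) j +
        (Pi.single l (v.2 k + (Pi.single l (v.2 k) : Fin n → ZMod 2) k) : Fin n → ZMod 2) j = v.2 j
      rw [Pi.single_eq_of_ne hkl.ne, add_zero, add_assoc, zz, add_zero]
  have hv2 : ∀ v : Vv n, v.2 k = 0 → (fl k l v).2 = v.2 := by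
    intro v hv
    change v.2 + Pi.single l (v.2 k) = v.2
    rw [hv, Pi.single_zero, add_zero]
  have hv1 : ∀ v : Vv n, (fl k l v).1 (lst hn) = v.1 (lst hn) := by
    intro v
    change v.1 (lst hn) + (Pi.single k (v.1 l) : Fin n → ZMod 2) (lst hn) = _
    rw [Pi.single_eq_of_ne hk.symm, add_zero]
  refine ⟨?_, ?_, ?_⟩
  · refine (eq_of_le fun v hv => ?_).symm
    rw [mem_smul, h1, lel_tv hkl.ne hg, mem_FA]
    rw [mem_FA] at hv
    rw [hv2 v (congrFun hv k), hv]
  · refine (eq_of_le fun v hv => ?_).symm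
    rw [mem_smul, h1, lel_tv hkl.ne hg, mem_FB]
    rw [mem_FB] at hv
    rw [hv2 v (hv.2 k hk), hv1]
    exact hv
  · refine (eq_of_le fun v hv => ?_).symm
    rw [mem_smul, h1, lel_tv hkl.ne hg, mem_FC]
    rw [mem_FC] at hv
    rw [hv2 v (hv.2 k hk), hv1]
    exact hv

theorem qel_fix (hn : 1 ≤ n) {k l : Fin n} (hkl : k < l) {s : Sym n}
    (hs : (s : Matrix (Fin n) (Fin n) (ZMod 2)) = single k l 1 + single l k 1) :
    qel (Multiplicative.ofAdd s) • FA n = FA n ∧ qel (Multiplicative.ofAdd s) • FB hn = FB hn ∧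
      qel (Multiplicative.ofAdd s) • FC hn = FC hn := by
  have hk : k ≠ lst hn := by
    intro hc
    have h1 : (k : ℕ) = n - 1 := congrArg Fin.val hc
    have h2 : (k : ℕ) < l := hkl
    have h3 := l.2
    omega
  have h1 : (qel (Multiplicative.ofAdd s))⁻¹ = qel (Multiplicative.ofAdd s) := by
    apply inv_eq_of_mul_eq_one_left
    refine ext_smul fun v => ?_
    rw [mul_smul, qel_ss hs, qel_ss hs, one_smul]
    refine Prod.ext (funext fun j => ?_) rfl
    change v.1 j + (Pi.single k (v.2 l) : Fin n → ZMod 2) j + (Pi.single l (v.2 k) : Fin n → ZMod 2) j +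
        (Pi.single k (v.2 l) : Fin n → ZMod 2) j + (Pi.single l (v.2 k) : Fin n → ZMod 2) j = v.1 j
    have h2 := zz ((Pi.single k (v.2 l) : Fin n → ZMod 2) j)
    have h3 := zz ((Pi.single l (v.2 k) : Fin n → ZMod 2) j)
    linear_combination h2 + h3
  have hv1 : ∀ v : Vv n, v.2 k = 0 → (fq k l v).1 (lst hn) = v.1 (lst hn) := by
    intro v hv
    change v.1 (lst hn) + (Pi.single k (v.2 l) : Fin n → ZMod 2) (lst hn) +
      (Pi.single l (v.2 k) : Fin n → ZMod 2) (lst hn) = _
    rw [Pi.single_eq_of_ne hk.symm, add_zero, hv, Pi.single_zero, Pi.zero_apply, add_zero]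
  refine ⟨?_, ?_, ?_⟩
  · refine (eq_of_le fun v hv => ?_).symm
    rw [mem_smul, h1, qel_ss hs, mem_FA]
    exact hv
  · refine (eq_of_le fun v hv => ?_).symm
    rw [mem_smul, h1, qel_ss hs, mem_FB]
    rw [mem_FB] at hv
    rw [hv1 v (hv.2 k hk)]
    exact hv
  · refine (eq_of_le fun v hv => ?_).symm
    rw [mem_smul, h1, qel_ss hs, mem_FC]
    rw [mem_FC] at hv
    rw [hv1 v (hv.2 k hk)]
    exact hv

/-- **The symplectic group is transitive on the maximal isotropic subspaces.** -/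
instance isPretransitive (n : ℕ) : MulAction.IsPretransitive (Sp n) (Lag n) := by
  have key : ∀ S : Lag n, ∃ y : Sp n, y • S = FA n := by
    intro S
    rcases Nat.eq_zero_or_pos n with rfl | hn
    · refine ⟨1, ?_⟩
      rw [one_smul]
      exact eq_of_le fun v _ => mem_FA.2 (funext fun j => j.elim0)
    · obtain ⟨y, -, h1 | h1 | h1⟩ := orbit_rep hn ⊤ (fun _ _ _ _ _ => Subgroup.mem_top _)
        (fun _ _ _ _ _ => Subgroup.mem_top _) (fun _ _ _ => Subgroup.mem_top _) S
      · exact ⟨y, h1⟩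
      · refine ⟨wel {lst hn} * y, ?_⟩
        rw [mul_smul, h1, FB, smul_smul, wel_mul_self, one_smul]
      · refine ⟨wel {lst hn} * (qel (Multiplicative.ofAdd (edm (lst hn))))⁻¹ * y, ?_⟩
        rw [mul_smul, h1, FC, FB, smul_smul, inv_mul_cancel_right, smul_smul, wel_mul_self, one_smul]
  refine ⟨fun S T => ?_⟩
  obtain ⟨y, hy⟩ := key S
  obtain ⟨z, hz⟩ := key T
  exact ⟨z⁻¹ * y, by rw [mul_smul, hy, ← hz, inv_smul_smul]⟩

end Cfsg.Agent.H743.EP.SpOrb
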