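import Cfsg.Agent.H743.AH.TwFC

/-!
# `²F₄(q)`, `q > 2`: `⟨X_2, …, X_7⟩ ≤ [U, U]` (helper743)
-/

set_option autoImplicit false
set_option linter.unusedSectionVars false

namespace Cfsg.Agent.H743.EP.TwF

open Cfsg.Agent.SplitTwo Cfsg.Agent.SplitTwo.ZS Cfsg.Agent.TitsThree.RankTwoZ Cfsg.Agent.KFacts.TwF4
open Cfsg.Agent.KFacts.TwF4.Full Cfsg.Agent.KFacts.TwF4.SylU Cfsg.Agent.KFacts.TwF4.Inv Cfsg.Agent.KFacts.TwF4.Arc
open Cfsg.Agent.SplitTwo.RootSysZ Subgroup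

universe u

section ab

variable {G : Type u} [Group G] (H : Subgroup G)

open Classical in
/-- the class in the abelianization of `H` -/
noncomputable def ab (g : G) : Abelianization ↥H := if h : g ∈ H then Abelianization.of ⟨g, h⟩ else 1

variable {H}

theorem ab_of {g : G} (h : g ∈ H) : ab H g = Abelianization.of ⟨g, h⟩ := by
  unfold ab
  rw [dif_pos h]

theorem ab_mul {x y : G} (hx : x ∈ H) (hy : y ∈ H) : ab H (x * y) = ab H x * ab H y := by
  rw [ab_of hx, ab_of hy, ab_of (mul_mem hx hy), ← map_mul]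
  rfl

theorem ab_rel {x y r : G} (hx : x ∈ H) (hy : y ∈ H) (hr : r ∈ H) (h : x * y = y * x * r) : ab H r = 1 := by
  have h1 := congrArg (ab H) h
  rw [ab_mul (mul_mem hy hx) hr, ab_mul hy hx, ab_mul hx hy, mul_comm (ab H x)] at h1
  exact mul_eq_left.1 h1.symm

theorem mem_of_ab {x : G} (hx : x ∈ H) (h : ab H x = 1) : x ∈ ⁅H, H⁆ := by
  rw [ab_of hx] at h
  have h1 : (⟨x, hx⟩ : H) ∈ commutator ↥H := (QuotientGroup.eq_one_iff _).1 h
  have h2 : ⁅H, H⁆ = Subgroup.map H.subtype ⁅(⊤ : Subgroup ↥H), ⊤⁆ := by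
    rw [Subgroup.map_commutator, ← MonoidHom.range_eq_map, Subgroup.range_subtype]
  rw [h2]
  exact ⟨_, h1, rfl⟩

end ab

variable {F : Type*} [Field F] {σ : F →+* F} {G : Type u} [Group G] (S : Full σ G)

/-- **`⟨X_2, …, X_7⟩ ≤ [U, U]`** -/
theorem J27_le (hF : ∃ c : Fˣ, c ≠ 1) : J S.XZ 2 7 ≤ ⁅J S.XZ 1 8, J S.XZ 1 8⁆ := by
  set H := J S.XZ 1 8 with hH
  have m1 : ∀ t, S.o 0 t ∈ H := fun t => mem_J (S.mX1 t) (by norm_num) (by norm_num)
  have m2 : ∀ p u, S.e 1 p u ∈ H := fun p u => mem_J (S.mX2 p u) (by norm_num) (by norm_num)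
  have m3 : ∀ t, S.o 1 t ∈ H := fun t => mem_J (S.mX3 t) (by norm_num) (by norm_num)
  have m4 : ∀ p u, S.e 2 p u ∈ H := fun p u => mem_J (S.mX4 p u) (by norm_num) (by norm_num)
  have m5 : ∀ t, S.o 2 t ∈ H := fun t => mem_J (S.mX5 t) (by norm_num) (by norm_num)
  have m6 : ∀ p u, S.e 3 p u ∈ H := fun p u => mem_J (S.mX6 p u) (by norm_num) (by norm_num)
  have m7 : ∀ t, S.o 3 t ∈ H := fun t => mem_J (S.mX7 t) (by norm_num) (by norm_num)
  have m8 : ∀ p u, S.e 4 p u ∈ H := fun p u => mem_J (S.mX8 p u) (by norm_num) (by norm_num)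
  -- the odd root groups
  have o1 : ∀ t, ab H (S.o 1 t) = 1 := fun t => by
    have h := S.e_e1 1 t 0 1 0
    rw [mul_one, show (1 : ZMod 8) + 1 = 2 by decide] at h
    exact ab_rel (m2 t 0) (m4 1 0) (m3 t) h
  have o2 : ∀ t, ab H (S.o 2 t) = 1 := fun t => by
    have h := S.e_e1 2 t 0 1 0
    rw [mul_one, show (2 : ZMod 8) + 1 = 3 by decide] at h
    exact ab_rel (m4 t 0) (m6 1 0) (m5 t) h
  have o3 : ∀ t, ab H (S.o 3 t) = 1 := fun t => by
    have h := S.e_e1 3 t 0 1 0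
    rw [mul_one, show (3 : ZMod 8) + 1 = 4 by decide] at h
    exact ab_rel (m6 t 0) (m8 1 0) (m7 t) h
  -- the centres of the even root groups
  have z1 : ∀ t, ab H (S.e 1 0 t) = 1 := fun t => by
    have h := S.o_e2 0 t 1 0
    rw [mul_one, show (0 : ZMod 8) + 2 = 2 by decide, show (0 : ZMod 8) + 1 = 1 by decide] at h
    exact ab_rel (m1 t) (m4 1 0) (m2 0 t) h
  have z2 : ∀ t, ab H (S.e 2 0 t) = 1 := fun t => by
    have h := S.o_e2 1 t 1 0
    rw [mul_one, show (1 : ZMod 8) + 2 = 3 by decide, show (1 : ZMod 8) + 1 = 2 by decide] at h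
    exact ab_rel (m3 t) (m6 1 0) (m4 0 t) h
  have z3 : ∀ t, ab H (S.e 3 0 t) = 1 := fun t => by
    have h := S.o_e2 2 t 1 0
    rw [mul_one, show (2 : ZMod 8) + 2 = 4 by decide, show (2 : ZMod 8) + 1 = 3 by decide] at h
    exact ab_rel (m5 t) (m8 1 0) (m6 0 t) h
  -- reduction to the first coordinate
  have r1 : ∀ p u, ab H (S.e 1 p u) = ab H (S.e 1 p 0) := fun p u => by
    have h := S.e_mul 1 p 0 0 u
    rw [add_zero, zero_add, map_zero, mul_zero, add_zero] at h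
    rw [← h, ab_mul (m2 p 0) (m2 0 u), z1, mul_one]
  have r2 : ∀ p u, ab H (S.e 2 p u) = ab H (S.e 2 p 0) := fun p u => by
    have h := S.e_mul 2 p 0 0 u
    rw [add_zero, zero_add, map_zero, mul_zero, add_zero] at h
    rw [← h, ab_mul (m4 p 0) (m4 0 u), z2, mul_one]
  have r3 : ∀ p u, ab H (S.e 3 p u) = ab H (S.e 3 p 0) := fun p u => by
    have h := S.e_mul 3 p 0 0 u
    rw [add_zero, zero_add, map_zero, mul_zero, add_zero] at h
    rw [← h, ab_mul (m6 p 0) (m6 0 u), z3, mul_one]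
  -- `[X_2, X_8]`
  have k1 : ∀ p q, ab H (S.e 2 (σ p * q) 0) * ab H (S.e 3 (p * σ q) 0) = 1 := fun p q => by
    have h := S.e_e3 1 p 0 q 0
    rw [show (1 : ZMod 8) + 3 = 4 by decide, show (1 : ZMod 8) + 1 = 2 by decide,
      show (1 : ZMod 8) + 2 = 3 by decide] at h
    simp only [mul_assoc (S.e 4 q 0 * S.e 1 p 0)] at h
    have h1 := ab_rel (m2 p 0) (m8 q 0) ?_ h
    · rw [ab_mul, ab_mul, ab_mul, ab_mul, o1, o2, o3, r2, r3, one_mul, mul_one, mul_one] at h1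
      · exact h1
      all_goals first | exact m7 _ | exact m6 _ _ | exact m5 _ | exact m4 _ _ | exact m3 _ | exact mul_mem (m3 _) (m4 _ _) | exact mul_mem (mul_mem (m3 _) (m4 _ _)) (m5 _) | exact mul_mem (mul_mem (mul_mem (m3 _) (m4 _ _)) (m5 _)) (m6 _ _)
    · exact mul_mem (mul_mem (mul_mem (mul_mem (m3 _) (m4 _ _)) (m5 _)) (m6 _ _)) (m7 _)
  -- `[X_1, X_8]`
  have k2 : ∀ t q v, ab H (S.e 1 (t * q) 0) * ab H (S.e 2 (σ t * q * σ q + σ t * v) 0) * ab H (S.e 3 (t * v) 0) = 1 := by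
    intro t q v
    have h := S.o_e4 0 t q v
    rw [show (0 : ZMod 8) + 4 = 4 by decide, show (0 : ZMod 8) + 1 = 1 by decide,
      show (0 : ZMod 8) + 2 = 2 by decide, show (0 : ZMod 8) + 3 = 3 by decide] at h
    simp only [mul_assoc (S.e 4 q v * S.o 0 t)] at h
    have h1 := ab_rel (m1 t) (m8 q v) ?_ h
    · rw [ab_mul, ab_mul, ab_mul, ab_mul, ab_mul, o1, o2, o3, r1, r2, r3, mul_one, mul_one, mul_one] at h1
      · exact h1
      all_goals first | exact m7 _ | exact m6 _ _ | exact m5 _ | exact m4 _ _ | exact m3 _ | exact m2 _ _ | exact mul_mem (m2 _ _) (m3 _) | exact mul_mem (mul_mem (m2 _ _) (m3 _)) (m4 _ _) | exact mul_mem (mul_mem (mul_mem (m2 _ _) (m3 _)) (m4 _ _)) (m5 _) | exact mul_mem (mul_mem (mul_mem (mul_mem (m2 _ _) (m3 _)) (m4 _ _)) (m5 _)) (m6 _ _)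
    · exact mul_mem (mul_mem (mul_mem (mul_mem (mul_mem (m2 _ _) (m3 _)) (m4 _ _)) (m5 _)) (m6 _ _)) (m7 _)
  -- the first coordinates
  have s3 : ∀ p, ab H (S.e 3 p 0) * ab H (S.e 3 p 0) = 1 := fun p => by
    have h := S.e_mul 3 p 0 p 0
    have h2 : p + p = 0 := by rw [← two_mul, S.two, zero_mul]
    rw [h2] at h
    rw [← ab_mul (m6 p 0) (m6 p 0), h, z3]
  have add3 : ∀ p q, ab H (S.e 3 (p + q) 0) = ab H (S.e 3 p 0) * ab H (S.e 3 q 0) := fun p q => by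
    have h := S.e_mul 3 p 0 q 0
    rw [← ab_mul (m6 p 0) (m6 q 0), h]
    exact (r3 _ _).symm
  have k3 : ∀ t v, ab H (S.e 2 (σ t * v) 0) * ab H (S.e 3 (t * v) 0) = 1 := fun t v => by
    have h := k2 t 0 v
    rw [mul_zero, z1, one_mul, mul_zero, zero_mul, zero_add] at h
    exact h
  have k4 : ∀ t v, ab H (S.e 3 (t * (σ v + v)) 0) = 1 := fun t v => by
    have h1 := k1 t v
    have h2 := k3 t v
    have h3 : ab H (S.e 3 (t * σ v) 0) = ab H (S.e 3 (t * v) 0) := mul_left_cancel (h1.trans h2.symm)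
    rw [mul_add, add3, h3, s3]
  obtain ⟨c, hc⟩ := hF
  have hc' : σ (c : F) + c ≠ 0 := by
    intro h
    have h1 : σ (c : F) = c := by
      have h2 : (c : F) + c = 0 := by rw [← two_mul, S.two, zero_mul]
      exact add_right_cancel (h.trans h2.symm)
    have h2 := S.sq (c : F)
    rw [h1, h1, pow_two] at h2
    apply hc
    apply Units.ext
    rw [Units.val_one]
    exact (mul_eq_left₀ c.ne_zero).1 h2.symm
  have e3 : ∀ p, ab H (S.e 3 p 0) = 1 := fun p => by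
    have h := k4 (p / (σ (c : F) + c)) c
    rwa [div_mul_cancel₀ _ hc'] at h
  have e2 : ∀ p, ab H (S.e 2 p 0) = 1 := fun p => by
    have h := k3 1 p
    rw [map_one, one_mul, e3, mul_one] at h
    exact h
  have e1 : ∀ p, ab H (S.e 1 p 0) = 1 := fun p => by
    have h := k2 1 p 0
    rw [e2, e3, mul_one, mul_one, one_mul] at h
    exact h
  refine J_le fun k hk1 hk2 x hx => ?_
  have hk : k = 2 ∨ k = 3 ∨ k = 4 ∨ k = 5 ∨ k = 6 ∨ k = 7 := by omega
  rcases hk with rfl | rfl | rfl | rfl | rfl | rfl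
  · obtain ⟨p, u, rfl⟩ := S.X2 hx
    exact mem_of_ab (m2 p u) ((r1 p u).trans (e1 p))
  · obtain ⟨t, rfl⟩ := S.X3 hx
    exact mem_of_ab (m3 t) (o1 t)
  · obtain ⟨p, u, rfl⟩ := S.X4 hx
    exact mem_of_ab (m4 p u) ((r2 p u).trans (e2 p))
  · obtain ⟨t, rfl⟩ := S.X5 hx
    exact mem_of_ab (m5 t) (o2 t)
  · obtain ⟨p, u, rfl⟩ := S.X6 hx
    exact mem_of_ab (m6 p u) ((r3 p u).trans (e3 p))
  · obtain ⟨t, rfl⟩ := S.X7 hx
    exact mem_of_ab (m7 t) (o3 t)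

end Cfsg.Agent.H743.EP.TwF
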