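import Cfsg.Agent.H743.EP.EvenBN
import Cfsg.Agent.H743.EP.TwFComm
import Cfsg.Agent.H966.EP.Perm
import Cfsg.Agent.H892.EP.Rows

/-!
# S4929: the groups `²F₄(q)`, `q > 2` (helper743)

`row_tf4`
-/

set_option autoImplicit false
set_option linter.unusedSectionVars false

namespace Cfsg.Agent.H743.EP.TwF

open Cfsg Cfsg.Agent.SplitTwo Cfsg.Agent.SplitTwo.ZS Cfsg.Agent.TitsThree.RankTwoZ Cfsg.Agent.KFacts.TwF4
open Cfsg.Agent.KFacts.TwF4.Full Cfsg.Agent.KFacts.TwF4.SylU Cfsg.Agent.KFacts.TwF4.Inv Cfsg.Agent.KFacts.TwF4.Arc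
open Cfsg.Agent.SplitTwo.RootSysZ Subgroup Cfsg.Agent.Characters.Core Cfsg.Agent.H892.EP Cfsg.Agent.H966.EP
open Cfsg.Agent.H743.AH.TwF

universe u

variable {F : Type*} [Field F] {σ : F →+* F} {G : Type u} [Group G] (S : Full σ G) [Finite F] [Finite G]
  (hF : ∃ c : Fˣ, c ≠ 1)

include hF in
/-- `U ∩ U^{n₁} ∩ U^{n₂} ≤ [U, U]` -/
theorem hR_aux {u : G} (hu : u ∈ J S.XZ 1 8) (h1 : S.n1⁻¹ * u * S.n1 ∈ J S.XZ 1 8)
    (h2 : S.n2⁻¹ * u * S.n2 ∈ J S.XZ 1 8) : u ∈ ⁅J S.XZ 1 8, J S.XZ 1 8⁆ := by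
  have Z8 := S.zsys8
  have k1 : u ∈ J S.XZ 2 8 := by
    obtain ⟨r, hr, y, hy, rfl⟩ := Z8.split_ll (a := 1) (b := 8) (by norm_num) (by norm_num) hu
    have h3 : S.n1⁻¹ * y * S.n1 ∈ J S.XZ 2 8 := S.n1_refl.mem_J_inv hy (by norm_num) (by norm_num)
    have h4 : S.n1⁻¹ * r * S.n1 ∈ S.XZ 9 := S.n1_refl.mem_inv hr (by norm_num)
    have h5 : S.n1⁻¹ * r * S.n1 ∈ J S.XZ 1 8 := by
      have e : S.n1⁻¹ * r * S.n1 = (S.n1⁻¹ * (r * y) * S.n1) * (S.n1⁻¹ * y * S.n1)⁻¹ := by group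
      rw [e]
      exact mul_mem h1 (inv_mem (J_mono (by norm_num) le_rfl h3))
    have h6 := inter_nine S hF h4 h5
    have h7 : r = 1 := by
      have e : r = S.n1 * (S.n1⁻¹ * r * S.n1) * S.n1⁻¹ := by group
      rw [e, h6]; group
    rw [h7, one_mul]
    exact hy
  have k2 : u ∈ J S.XZ 1 7 := by
    obtain ⟨r, hr, y, hy, rfl⟩ := Z8.split_rl (a := 1) (b := 8) (by norm_num) (by norm_num) hu
    have h3 : S.n2⁻¹ * y * S.n2 ∈ J S.XZ 1 7 := S.n2_refl.mem_J_inv hy (by norm_num) (by norm_num)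
    have h4 : S.n2⁻¹ * r * S.n2 ∈ S.XZ 0 := S.n2_refl.mem_inv hr (by norm_num)
    have h5 : S.n2⁻¹ * r * S.n2 ∈ J S.XZ 1 8 := by
      have e : S.n2⁻¹ * r * S.n2 = (S.n2⁻¹ * (r * y) * S.n2) * (S.n2⁻¹ * y * S.n2)⁻¹ := by group
      rw [e]
      exact mul_mem h2 (inv_mem (J_mono le_rfl (by norm_num) h3))
    have h6 := (S.J07_inf_UT h4 h5 (one_mem _) (by rw [mul_one])).1
    have h7 : r = 1 := by
      have e : r = S.n2 * (S.n2⁻¹ * r * S.n2) * S.n2⁻¹ := by group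
      rw [e, h6]; group
    rw [h7, one_mul]
    exact hy
  exact J27_le S hF (Z8.inter_J 1 k1 k2 (e := 2) (f := 7) (by norm_num) (by norm_num) (by norm_num) (by norm_num)
    (by norm_num) (by norm_num))

theorem n2_inv : S.n2⁻¹ = S.n2 := inv_eq_of_mul_eq_one_right S.n2_sq

theorem n2_conj_T {t : G} (ht : t ∈ S.T) : S.n2⁻¹ * t * S.n2 ∈ S.T := by
  obtain ⟨c, d, rfl⟩ := S.mem_T.1 ht
  have h1 := S.n2_h c d
  have h2 : S.n2⁻¹ * S.h c d * S.n2 = S.n2 * S.h c d * S.n2⁻¹ := by rw [n2_inv]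
  rw [h2, h1]
  exact S.mem_T.2 ⟨_, _, rfl⟩

section BN

open Cfsg.Agent.FixBN

variable (hR : S.R.p = 2) {P : Cfsg.BNPair G} (Sp : Split P 2 (J S.XZ 1 8))

include Sp in
theorem n2_notMem : S.n2 ∉ P.B := by
  intro h
  obtain ⟨x, hx, hx1⟩ := S.zsys8.exists_ne 8
  have h1 := Sp.norm S.n2 h x (mem_J hx (by norm_num) le_rfl)
  have h2 : S.n2 * x * S.n2⁻¹ ∈ S.XZ 0 := S.n2_refl.mem' hx (by norm_num)
  exact hx1 (conj_eq_one_iff.1 (S.J07_inf_UT h2 h1 (one_mem _) (by rw [mul_one])).1)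

/-- powers of elements of `U T` -/
theorem pow_form {b t : G} (hb : b ∈ J S.XZ 1 8) (ht : t ∈ S.T) (m : ℕ) :
    ∃ b' ∈ J S.XZ 1 8, (b * t) ^ m = b' * t ^ m := by
  induction m with
  | zero => exact ⟨1, one_mem _, by simp⟩
  | succ m ih =>
    obtain ⟨b', hb', e⟩ := ih
    refine ⟨b' * (t ^ m * b * (t ^ m)⁻¹), mul_mem hb' (S.T_conj_J (pow_mem ht m) hb), ?_⟩
    rw [pow_succ, e, pow_succ]
    group

include hF hR Sp in
/-- the order of `B` -/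
theorem dvd_of_dvd_B {p : ℕ} [Fact p.Prime] (hp2 : p ≠ 2) (h : p ∣ Nat.card P.B) : p ∣ Nat.card Fˣ := by
  obtain ⟨b, hb⟩ := exists_prime_orderOf_dvd_card' p h
  obtain ⟨u, hu, t, ht, e⟩ := B_form S hF hR Sp b.2
  obtain ⟨u', hu', e'⟩ := pow_form S hu ht (Nat.card Fˣ)
  have ht1 : t ^ Nat.card Fˣ = 1 := by
    obtain ⟨c, d, rfl⟩ := S.mem_T.1 ht
    rw [h_pow S, pow_card_eq_one', pow_card_eq_one', S.h_one]
  rw [ht1, mul_one, ← e] at e'
  obtain ⟨k, hk⟩ := Sp.isP ⟨u', hu'⟩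
  have hk' : u' ^ 2 ^ k = 1 := congrArg Subtype.val hk
  rw [← e', ← pow_mul] at hk'
  have h1 : orderOf (b : G) ∣ Nat.card Fˣ * 2 ^ k := orderOf_dvd_of_pow_eq_one hk'
  rw [Subgroup.orderOf_coe, hb] at h1
  rcases (Fact.out : p.Prime).dvd_mul.1 h1 with h2 | h2
  · exact h2
  · exact absurd ((Nat.prime_dvd_prime_iff_eq Fact.out Nat.prime_two).1 ((Fact.out : p.Prime).dvd_of_dvd_pow h2)) hp2

include hF hR Sp in
theorem exists_mem {p : ℕ} [Fact p.Prime] (hp2 : p ≠ 2) (hd : p ∣ Nat.card G) {M : Ideal AlgInt} (hM : IsPModular p M) :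
    ∃ χ ∈ principalBlock M G, χ ≠ oneChar G ∧ md P.B (χ : G → ℂ) ≠ 0 := by
  by_cases hB : p ∣ Nat.card P.B
  · obtain ⟨d, hd'⟩ := exists_prime_orderOf_dvd_card' p (dvd_of_dvd_B S hF hR Sp hp2 hB)
    have hd1 : d ≠ 1 := by
      rintro rfl
      rw [orderOf_one] at hd'
      exact (Fact.out : p.Prime).one_lt.ne hd'
    have hdp : d ^ p = 1 := by rw [← hd', pow_orderOf_eq_one]
    set t := S.h (Units.map (σ : F →* F) d) d with ht
    have ht4 : t ∈ S.Tk 4 := by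
      have h1 := (AutTau.mem_Tk_even S 2 (Units.map (σ : F →* F) d) d).2 (by
        show chE σ 2 (Units.map (σ : F →* F) d) d = 1
        rw [chE_two, div_self'])
      norm_num at h1
      exact h1
    have htp : t ^ p = 1 := by rw [ht, h_pow S, ← map_pow, hdp, map_one, S.h_one]
    have ht1 : t ≠ 1 := by
      rw [ht, ← S.h_one]
      intro h
      exact hd1 (S.h_inj _ _ _ _ h).2
    have hot : orderOf t = p := orderOf_eq_prime htp ht1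
    have hTB : S.T ≤ P.B := T_le_B S Sp
    -- the parabolic subgroup
    have hnorm : ∀ x ∈ S.T, ∀ z ∈ S.PL, x * z * x⁻¹ ∈ S.PL := fun x hx z hz => S.T_conj_J hx hz
    have hBH : P.B ≤ S.T ⊔ S.PL := by
      intro b hb
      obtain ⟨u, hu, s, hs, rfl⟩ := B_form S hF hR Sp hb
      exact mul_mem (Subgroup.mem_sup_right (J_mono (by norm_num) le_rfl hu)) (Subgroup.mem_sup_left hs)
    have htH : t ∈ S.T ⊔ S.PL := Subgroup.mem_sup_left ht4.1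
    have hnH : S.n2 ∈ S.T ⊔ S.PL := Subgroup.mem_sup_right S.n2_mem
    refine exists_over_md hM (S.T ⊔ S.PL) P.B hBH ?_
    refine exists_of_fixed hM (P.B.subgroupOf (S.T ⊔ S.PL)) (x := ⟨t, htH⟩) (n := ⟨S.n2, hnH⟩)
      ⟨1, by rw [Subgroup.orderOf_mk, hot, pow_one]⟩ ?_ ?_
    · rw [Subgroup.mem_subgroupOf]
      exact n2_notMem S Sp
    · rintro ⟨g, hg⟩ hgc
      have hgc' : g * t = t * g := congrArg Subtype.val hgc
      rw [Subgroup.mem_subgroupOf, Subgroup.mem_subgroupOf]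
      show g ∈ P.B ∧ S.n2⁻¹ * g * S.n2 ∈ P.B
      obtain ⟨s, hs, y, hy, rfl⟩ := mem_sup_of_norm hnorm hg
      have hyc : y * t = t * y := by
        have h1 : s * (y * t) = s * (t * y) := by
          rw [← mul_assoc, hgc', ← mul_assoc, ← mul_assoc, S.T_comm hs ht4.1]
        exact mul_left_cancel h1
      obtain ⟨x, hx, r, hr, rfl⟩ := S.centralizer_Tk hy ht4 ht1 hyc
      have hXB : S.XZ 4 ≤ P.B := fun x hx => Sp.le (mem_J hx (by norm_num) (by norm_num))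
      refine ⟨mul_mem (hTB hs) (mul_mem (hXB hx) (hTB hr.1)), ?_⟩
      have e : S.n2⁻¹ * (s * (x * r)) * S.n2 = (S.n2⁻¹ * s * S.n2) * ((S.n2⁻¹ * x * S.n2) * (S.n2⁻¹ * r * S.n2)) := by
        group
      rw [e]
      exact mul_mem (hTB (n2_conj_T S hs)) (mul_mem (hXB (S.n2_refl.mem_inv hx (by norm_num)))
        (hTB (n2_conj_T S hr.1)))
  · exact exists_of_coprime hM P.B hd hB

end BN

section Final

open Cfsg.Lie Cfsg.Agent.FixBN

/-- **The groups `²F₄(q)`, `q > 2`.** -/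
theorem ev_twF4 {K : Type u} [Field K] [Fintype K] {m : ℕ} (hm : 1 ≤ m) (hK : Fintype.card K = 2 ^ (2 * m + 1)) :
    Ev ↥(twistedF4 K (2 ^ m)) := by
  intro p hp hp2 hd M hM
  have : Fact p.Prime := ⟨hp⟩
  have := Cfsg.Agent.ChevalleyStructure.TwF4.Twisted.charP_two hK
  have hfin : Finite ↥(twistedF4 K (2 ^ m)) := inferInstance
  have hFc : Nat.card K = 2 ^ (2 * m + 1) := by rw [Nat.card_eq_fintype_card, hK]
  have h8 : 8 ≤ Nat.card K := by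
    rw [hFc]
    calc 8 = 2 ^ 3 := by norm_num
      _ ≤ _ := Nat.pow_le_pow_right (by norm_num) (by omega)
  have hF : ∃ c : Kˣ, c ≠ 1 := by
    have h1 : 1 < Nat.card Kˣ := by
      rw [Nat.card_units]
      omega
    have h2 : Nontrivial Kˣ := Finite.one_lt_card_iff_nontrivial.1 h1
    exact exists_ne 1
  obtain ⟨φ, S, P, hR, Sp, hPS, hTN⟩ := exists_bn hK
  obtain ⟨χ, hχ, hne, hmd⟩ := exists_mem S hF hR Sp hp2 hd hM
  refine ⟨χ, hχ, ?_⟩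
  refine even_bn Sp hPS (n1_ne_n2 S) (fun u hu h1 h2 => hR_aux S hF hu h1 h2) χ.2
    (fun h => hne (Subtype.ext h)) (fun h => hmd ((md_eq_zero_iff _ _).2 h))
    (Cfsg.Agent.Blocks.Basic.irr_one_eq_charDegree χ.2)

end Final

end Cfsg.Agent.H743.EP.TwF

namespace Cfsg.Agent.H743.EP

open Cfsg Cfsg.Agent.H892.EP

/-- the row of `²F₄(q)` in S4929 -/
theorem row_tf4 : SpRow fun K => Lie.Iso2F4 K := by
  intro K _ _ _ h
  obtain ⟨F, i1, i2, m, hm, hF, ⟨e⟩⟩ := h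
  exact (TwF.ev_twF4 hm hF).tr e.symm

end Cfsg.Agent.H743.EP
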